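import Groth.Agent.H64.Stk.FpFunct

set_option autoImplicit false
open CategoryTheory CategoryTheory.Limits
universe v₇ u₇ v₆ u₆ v₅ u₅ v₄ u₄ v₃ u₃ v₂ u₂ v u

namespace Groth.Agent.H64

open Groth.Agent.H32

variable {C : Type u} [Category.{v} C]

section paste

variable {𝒳 : BasedCategory.{v₂, u₂} C} {𝒴 : BasedCategory.{v₃, u₃} C}
  {𝒵 : BasedCategory.{v₄, u₄} C} {𝒲 : BasedCategory.{v₅, u₅} C}
variable (f : 𝒳 ⥤ᵇ 𝒴) (g : 𝒵 ⥤ᵇ 𝒴) (z : 𝒲 ⥤ᵇ 𝒵)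

/-- `𝒲 ×_𝒴 𝒳 ⟶ 𝒵 ×_𝒴 𝒳` -/
def fpPasteSnd : FibCat.fp (BasedFunctor.comp z g) f ⥤ᵇ FibCat.fp g f :=
  FibCat.fpLift (F := g) (G := f) (BasedFunctor.comp (FibCat.fpFst (BasedFunctor.comp z g) f) z)
    (FibCat.fpSnd (BasedFunctor.comp z g) f) (FibCat.fpIso (BasedFunctor.comp z g) f)

/-- the pasting functor `𝒲 ×_𝒴 𝒳 ⟶ 𝒲 ×_𝒵 (𝒵 ×_𝒴 𝒳)` -/
def fpPaste : FibCat.fp (BasedFunctor.comp z g) f ⥤ᵇ FibCat.fp z (FibCat.fpFst g f) :=
  FibCat.fpLift (F := z) (G := FibCat.fpFst g f) (FibCat.fpFst (BasedFunctor.comp z g) f)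
    (fpPasteSnd f g z) (Iso.refl _)

@[simp] theorem fpPaste_obj_fst (ξ : (FibCat.fp (BasedFunctor.comp z g) f).obj) :
    ((fpPaste f g z).obj ξ).obj.fst = ξ.obj.fst := rfl

@[simp] theorem fpPaste_obj_snd_fst (ξ : (FibCat.fp (BasedFunctor.comp z g) f).obj) :
    ((fpPaste f g z).obj ξ).obj.snd.obj.fst = z.obj ξ.obj.fst := rfl

@[simp] theorem fpPaste_obj_snd_snd (ξ : (FibCat.fp (BasedFunctor.comp z g) f).obj) :
    ((fpPaste f g z).obj ξ).obj.snd.obj.snd = ξ.obj.snd := rfl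

theorem fpPaste_obj_snd_iso (ξ : (FibCat.fp (BasedFunctor.comp z g) f).obj) :
    ((fpPaste f g z).obj ξ).obj.snd.obj.iso.hom = ξ.obj.iso.hom := rfl

theorem fpPaste_obj_iso (ξ : (FibCat.fp (BasedFunctor.comp z g) f).obj) :
    ((fpPaste f g z).obj ξ).obj.iso.hom = 𝟙 (z.obj ξ.obj.fst) := rfl

@[simp] theorem fpPaste_map_fst {ξ ξ' : (FibCat.fp (BasedFunctor.comp z g) f).obj} (m : ξ ⟶ ξ') :
    ((fpPaste f g z).map m).hom.fst = m.hom.fst := rfl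

@[simp] theorem fpPaste_map_snd_fst {ξ ξ' : (FibCat.fp (BasedFunctor.comp z g) f).obj}
    (m : ξ ⟶ ξ') : ((fpPaste f g z).map m).hom.snd.hom.fst = z.map m.hom.fst := rfl

@[simp] theorem fpPaste_map_snd_snd {ξ ξ' : (FibCat.fp (BasedFunctor.comp z g) f).obj}
    (m : ξ ⟶ ξ') : ((fpPaste f g z).map m).hom.snd.hom.snd = m.hom.snd := rfl

theorem fpPaste_faithful : (fpPaste f g z).toFunctor.Faithful := by
  refine ⟨fun {ξ ξ'} m m' h => ?_⟩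
  apply fp_hom_ext
  · exact congrArg (fun t => t.hom.fst) h
  · exact congrArg (fun t => t.hom.snd.hom.snd) h

theorem fpPaste_full : (fpPaste f g z).toFunctor.Full := by
  refine ⟨fun {ξ ξ'} n => ?_⟩
  let n₁ : ξ.obj.fst ⟶ ξ'.obj.fst := n.hom.fst
  let n₂ : ξ.obj.snd ⟶ ξ'.obj.snd := n.hom.snd.hom.snd
  let n₃ : z.obj ξ.obj.fst ⟶ z.obj ξ'.obj.fst := n.hom.snd.hom.fst
  have hw : z.map n₁ ≫ 𝟙 _ = 𝟙 _ ≫ n₃ := n.hom.w
  have hw' : g.map n₃ ≫ ξ'.obj.iso.hom = ξ.obj.iso.hom ≫ f.map n₂ := n.hom.snd.hom.w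
  have h3 : n₃ = z.map n₁ := by
    rw [Category.comp_id, Category.id_comp] at hw
    exact hw.symm
  have hw'' : (BasedFunctor.comp z g).map n₁ ≫ ξ'.obj.iso.hom = ξ.obj.iso.hom ≫ f.map n₂ := by
    show g.map (z.map n₁) ≫ _ = _
    rw [← h3]
    exact hw'
  refine ⟨fpHomMk (BasedFunctor.comp z g) f n₁ n₂ hw'', ?_⟩
  apply fp_hom_ext
  · rfl
  · apply fp_hom_ext
    · exact h3.symm
    · rfl

theorem fpPaste_essSurj (η : (FibCat.fp z (FibCat.fpFst g f)).obj) :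
    ∃ (ξ : (FibCat.fp (BasedFunctor.comp z g) f).obj) (e : (fpPaste f g z).obj ξ ≅ η),
      (FibCat.fp z (FibCat.fpFst g f)).p.IsHomLift
        (𝟙 ((FibCat.fp z (FibCat.fpFst g f)).p.obj η)) e.hom := by
  -- η = (w, (v, x, φ), θ : z w ≅ v)
  let w : 𝒲.obj := η.obj.fst
  let t : (FibCat.fp g f).obj := η.obj.snd
  let θ : z.obj w ≅ t.obj.fst := η.obj.iso
  let U : C := 𝒲.p.obj w
  have hθ : 𝒵.p.IsHomLift (𝟙 U) θ.hom := fp_iso_isHomLift z (FibCat.fpFst g f) η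
  have hgθ : 𝒴.p.IsHomLift (𝟙 U) (g.map θ.hom) := (BasedFunctor.isHomLift_iff g _ _).mpr hθ
  have ht : 𝒵.p.obj t.obj.fst = U := lift_codomain_eq 𝒵.p hθ
  have hφ : 𝒴.p.IsHomLift (𝟙 U) t.obj.iso.hom := lift_id_congr 𝒴.p (fp_iso_isHomLift g f t) ht
  let ψ : (BasedFunctor.comp z g).obj w ≅ f.obj t.obj.snd := g.toFunctor.mapIso θ ≪≫ t.obj.iso
  have hψ : 𝒴.p.IsHomLift (𝟙 U) ψ.hom := lift_id_comp_id 𝒴.p hgθ hφ
  let ξ : (FibCat.fp (BasedFunctor.comp z g) f).obj := ⟨⟨w, t.obj.snd, ψ⟩, hψ⟩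
  -- the isomorphism of the second components `(z w, x, gθ ≫ φ) ≅ (v, x, φ)`
  let e₂ : ((fpPaste f g z).obj ξ).obj.snd ≅ t :=
    fpIsoMk g f (z := ((fpPaste f g z).obj ξ).obj.snd) (z' := t) θ (Iso.refl _) (by
      show g.map θ.hom ≫ t.obj.iso.hom = (g.map θ.hom ≫ t.obj.iso.hom) ≫ f.map (𝟙 _)
      rw [f.map_id, Category.comp_id])
  let e : (fpPaste f g z).obj ξ ≅ η :=
    fpIsoMk z (FibCat.fpFst g f) (z := (fpPaste f g z).obj ξ) (z' := η) (Iso.refl w) e₂ (by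
      show z.map (𝟙 w) ≫ θ.hom = 𝟙 _ ≫ θ.hom
      rw [z.map_id])
  refine ⟨ξ, e, ?_⟩
  have : 𝒲.p.IsHomLift (𝟙 U) e.hom.hom.fst := IsHomLift.id rfl
  exact fp_isHomLift_of_fst z (FibCat.fpFst g f) e.hom (𝟙 U)

/-- pasting of 2-fibre products: `𝒲 ×_𝒴 𝒳 ≃ 𝒲 ×_𝒵 (𝒵 ×_𝒴 𝒳)` -/
theorem isEquivOver_fpPaste : FibCat.IsEquivOver (fpPaste f g z) := by
  have := fpPaste_full f g z
  have := fpPaste_faithful f g z
  exact isEquivOver_of_fullyFaithful_of_fiberwise_essSurj _ (fun η => fpPaste_essSurj f g z η)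

/-- the pasting functor is compatible with the first projections (strictly) -/
theorem fpPaste_comp_fpFst :
    BasedFunctor.comp (fpPaste f g z) (FibCat.fpFst z (FibCat.fpFst g f)) =
      FibCat.fpFst (BasedFunctor.comp z g) f := rfl

end paste

end Groth.Agent.H64
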