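import Groth.Agent.H64.Stk.Basic

set_option autoImplicit false
open CategoryTheory
universe v₂ u₂ v u

/-! Explicit-hypothesis versions of the `IsHomLift` / `IsStronglyCartesian` API (robust against
instance-search failing on non-reducible definitional unfoldings). -/

namespace Groth.Agent.H64

variable {C : Type u} [Category.{v} C] {𝒳 : Type u₂} [Category.{v₂} 𝒳] (p : 𝒳 ⥤ C)

theorem lift_comp {R S T : C} {a b c : 𝒳} {f : R ⟶ S} {g : S ⟶ T} {φ : a ⟶ b} {ψ : b ⟶ c}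
    (h1 : p.IsHomLift f φ) (h2 : p.IsHomLift g ψ) : p.IsHomLift (f ≫ g) (φ ≫ ψ) := inferInstance

theorem lift_comp_id_left {S T : C} {a b c : 𝒳} {f : S ⟶ T} {φ : a ⟶ b} {ψ : b ⟶ c}
    (h1 : p.IsHomLift (𝟙 S) φ) (h2 : p.IsHomLift f ψ) : p.IsHomLift f (φ ≫ ψ) := inferInstance

theorem lift_comp_id_right {S T : C} {a b c : 𝒳} {f : S ⟶ T} {φ : a ⟶ b} {ψ : b ⟶ c}
    (h1 : p.IsHomLift f φ) (h2 : p.IsHomLift (𝟙 T) ψ) : p.IsHomLift f (φ ≫ ψ) := inferInstance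

theorem lift_id_comp_id {S : C} {a b c : 𝒳} {φ : a ⟶ b} {ψ : b ⟶ c}
    (h1 : p.IsHomLift (𝟙 S) φ) (h2 : p.IsHomLift (𝟙 S) ψ) : p.IsHomLift (𝟙 S) (φ ≫ ψ) :=
  inferInstance

theorem lift_id_of_obj {a : 𝒳} {S : C} (h : p.obj a = S) : p.IsHomLift (𝟙 S) (𝟙 a) :=
  IsHomLift.id h

theorem lift_map {a b : 𝒳} (φ : a ⟶ b) : p.IsHomLift (p.map φ) φ := inferInstance

theorem lift_of_eq {R S : C} {a b : 𝒳} {f f' : R ⟶ S} {φ : a ⟶ b} (h : p.IsHomLift f φ)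
    (e : f = f') : p.IsHomLift f' φ := e ▸ h

theorem lift_id_congr {S S' : C} {a b : 𝒳} {φ : a ⟶ b} (h : p.IsHomLift (𝟙 S) φ) (e : S = S') :
    p.IsHomLift (𝟙 S') φ := by
  subst e; exact h

theorem lift_eqToHom {a b : 𝒳} (h : a = b) {S : C} (ha : p.obj a = S) :
    p.IsHomLift (𝟙 S) (eqToHom h) := by
  subst h
  exact IsHomLift.id ha

theorem lift_inv_of_iso {S : C} {a b : 𝒳} (e : a ≅ b) (h : p.IsHomLift (𝟙 S) e.hom) :
    p.IsHomLift (𝟙 S) e.inv := IsHomLift.lift_id_inv p S e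

theorem lift_inv_of_isIso {S : C} {a b : 𝒳} (φ : a ⟶ b) [IsIso φ] (h : p.IsHomLift (𝟙 S) φ) :
    p.IsHomLift (𝟙 S) (inv φ) := by
  have := IsHomLift.lift_id_inv_isIso p S φ
  simpa using this

theorem lift_domain_eq {R S : C} {a b : 𝒳} {f : R ⟶ S} {φ : a ⟶ b} (h : p.IsHomLift f φ) :
    p.obj a = R := IsHomLift.domain_eq p f φ

theorem lift_codomain_eq {R S : C} {a b : 𝒳} {f : R ⟶ S} {φ : a ⟶ b} (h : p.IsHomLift f φ) :
    p.obj b = S := IsHomLift.codomain_eq p f φ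

/-- uniqueness part of the universal property, explicit hypotheses -/
theorem cart_ext {R S : C} {a b : 𝒳} {f : R ⟶ S} {φ : a ⟶ b} (hs : p.IsStronglyCartesian f φ)
    {R' : C} {a' : 𝒳} (g : R' ⟶ R) {ψ ψ' : a' ⟶ a} (h1 : p.IsHomLift g ψ) (h2 : p.IsHomLift g ψ')
    (h : ψ ≫ φ = ψ' ≫ φ) : ψ = ψ' :=
  Functor.IsStronglyCartesian.ext p f φ g h

/-- existence part of the universal property, explicit hypotheses -/
theorem cart_lift {R S : C} {a b : 𝒳} {f : R ⟶ S} {φ : a ⟶ b} (hs : p.IsStronglyCartesian f φ)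
    {R' : C} {a' : 𝒳} (g : R' ⟶ R) (f' : R' ⟶ S) (hf' : f' = g ≫ f) (φ' : a' ⟶ b)
    (h : p.IsHomLift f' φ') : ∃ χ : a' ⟶ a, p.IsHomLift g χ ∧ χ ≫ φ = φ' := by
  obtain ⟨χ, hχ, -⟩ := Functor.IsStronglyCartesian.universal_property p f φ g f' hf' φ'
  exact ⟨χ, hχ⟩

/-- lifting over an identity: explicit hypotheses -/
theorem cart_lift_id {R S : C} {a b : 𝒳} {f : R ⟶ S} {φ : a ⟶ b} (hs : p.IsStronglyCartesian f φ)
    {a' : 𝒳} (φ' : a' ⟶ b) (h : p.IsHomLift f φ') :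
    ∃ χ : a' ⟶ a, p.IsHomLift (𝟙 R) χ ∧ χ ≫ φ = φ' :=
  cart_lift p hs (𝟙 R) f (Category.id_comp f).symm φ' h

theorem cart_of_fibGrpd (hp : FibCat.IsFibGrpd p) {R S : C} {a b : 𝒳} {f : R ⟶ S} {φ : a ⟶ b}
    (h : p.IsHomLift f φ) : p.IsStronglyCartesian f φ :=
  Groth.Agent.H32.isStronglyCartesian_of_fibGrpd p hp f φ

theorem isIso_of_lift_id (hp : FibCat.IsFibGrpd p) {S : C} {a b : 𝒳} {φ : a ⟶ b}
    (h : p.IsHomLift (𝟙 S) φ) : IsIso φ :=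
  Groth.Agent.H32.isIso_of_fibGrpd' p hp (𝟙 S) φ

theorem isIso_of_lift_iso (hp : FibCat.IsFibGrpd p) {R S : C} {f : R ⟶ S} [IsIso f] {a b : 𝒳}
    {φ : a ⟶ b} (h : p.IsHomLift f φ) : IsIso φ :=
  Groth.Agent.H32.isIso_of_fibGrpd' p hp f φ

end Groth.Agent.H64
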