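import Groth.Agent.H64.Stk.FpStack
import Groth.Agent.H64.Stk.Lift

set_option autoImplicit false
open CategoryTheory CategoryTheory.Limits
universe v₅ u₅ v₄ u₄ v₃ u₃ v₂ u₂ v u

/-! Universe-general whiskering of 2-isomorphisms over `C`, and invertibility of 2-morphisms into a
category fibred in groupoids. -/

namespace Groth.Agent.H64

open Groth.Agent.H32

variable {C : Type u} [Category.{v} C] {𝒜 : BasedCategory.{v₂, u₂} C}
  {ℬ : BasedCategory.{v₃, u₃} C} {𝒳 : BasedCategory.{v₄, u₄} C}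

/-- whiskering a 2-isomorphism on the right -/
def bwrIso {F G : 𝒜 ⥤ᵇ ℬ} (e : F ≅ G) (H : ℬ ⥤ᵇ 𝒳) :
    BasedFunctor.comp F H ≅ BasedFunctor.comp G H where
  hom := BasedCategory.whiskerRight e.hom H
  inv := BasedCategory.whiskerRight e.inv H
  hom_inv_id := by
    apply bext
    intro a
    show H.map (bapp e.hom a) ≫ H.map (bapp e.inv a) = 𝟙 _
    rw [← H.map_comp, bapp_iso_hom_inv, H.map_id]
  inv_hom_id := by
    apply bext
    intro a
    show H.map (bapp e.inv a) ≫ H.map (bapp e.hom a) = 𝟙 _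
    rw [← H.map_comp, bapp_iso_inv_hom, H.map_id]

/-- whiskering a 2-isomorphism on the left -/
def bwlIso (K : 𝒜 ⥤ᵇ ℬ) {F G : ℬ ⥤ᵇ 𝒳} (e : F ≅ G) :
    BasedFunctor.comp K F ≅ BasedFunctor.comp K G where
  hom := BasedCategory.whiskerLeft K e.hom
  inv := BasedCategory.whiskerLeft K e.inv
  hom_inv_id := by
    apply bext
    intro a
    show bapp e.hom (K.obj a) ≫ bapp e.inv (K.obj a) = 𝟙 _
    rw [bapp_iso_hom_inv]
  inv_hom_id := by
    apply bext
    intro a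
    show bapp e.inv (K.obj a) ≫ bapp e.hom (K.obj a) = 𝟙 _
    rw [bapp_iso_inv_hom]

/-- a 2-morphism into a category fibred in groupoids is invertible -/
noncomputable def bisoOfHom (h𝒳 : FibCat.IsFibGrpd 𝒳.p) {G H : 𝒜 ⥤ᵇ 𝒳} (β : G ⟶ H) : G ≅ H :=
  mkBIso (fun t => @asIso _ _ _ _ (bapp β t) (isIso_of_lift_id 𝒳.p h𝒳 (bapp_isHomLift β t)))
    (fun m => bapp_naturality β m) (fun t => bapp_isHomLift β t)

theorem bisoOfHom_hom (h𝒳 : FibCat.IsFibGrpd 𝒳.p) {G H : 𝒜 ⥤ᵇ 𝒳} (β : G ⟶ H) :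
    (bisoOfHom h𝒳 β).hom = β :=
  bext _ _ (fun _ => rfl)

end Groth.Agent.H64
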