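import Groth.Agent.H64.Stk.Basic
import Groth.Agent.H32.Fp

set_option autoImplicit false
open CategoryTheory CategoryTheory.Limits
universe v₆ u₆ v₅ u₅ v₄ u₄ v₃ u₃ v₂ u₂ v u

namespace Groth.Agent.H64

variable {C : Type u} [Category.{v} C]

section whisker

variable {𝒜 : BasedCategory.{v₂, u₂} C} {ℬ : BasedCategory.{v₃, u₃} C}
  {𝒳 : BasedCategory.{v₄, u₄} C}

@[simp] theorem bapp_whiskerRight {H H' : 𝒜 ⥤ᵇ ℬ} (α : H ⟶ H') (F : ℬ ⥤ᵇ 𝒳) (a : 𝒜.obj) :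
    bapp (BasedCategory.whiskerRight α F) a = F.map (bapp α a) := rfl

@[simp] theorem bapp_whiskerLeft (ι : 𝒜 ⥤ᵇ ℬ) {H H' : ℬ ⥤ᵇ 𝒳} (α : H ⟶ H') (a : 𝒜.obj) :
    bapp (BasedCategory.whiskerLeft ι α) a = bapp α (ι.obj a) := rfl

end whisker

section aux

variable {D : Type u₂} [Category.{v₂} D]

theorem conj_id_aux {X Y Z W : D} (f : X ⟶ Y) (f' : Y ⟶ X) (i : Y ≅ Z) (g : W ⟶ Z) (g' : Z ⟶ W)
    (hf : f ≫ f' = 𝟙 X) (hg : g' ≫ g = 𝟙 Z) : (f ≫ i.hom ≫ g') ≫ g ≫ i.inv ≫ f' = 𝟙 X := by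
  simp only [Category.assoc]
  rw [reassoc_of% hg, Iso.hom_inv_id_assoc, hf]

theorem conj_id_aux' {X Y Z W : D} (f : X ⟶ Y) (f' : Y ⟶ X) (i : Y ≅ Z) (g : W ⟶ Z) (g' : Z ⟶ W)
    (hf : f' ≫ f = 𝟙 Y) (hg : g ≫ g' = 𝟙 W) : (g ≫ i.inv ≫ f') ≫ f ≫ i.hom ≫ g' = 𝟙 W := by
  simp only [Category.assoc]
  rw [reassoc_of% hf, Iso.inv_hom_id_assoc, hg]

theorem cancel_aux {X Y Z W : D} (f : X ⟶ Y) (i : Y ⟶ Z) (g : W ⟶ Z) (g' : Z ⟶ W)
    (hg : g' ≫ g = 𝟙 Z) : f ≫ i = (f ≫ i ≫ g') ≫ g := by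
  simp only [Category.assoc]
  rw [hg, Category.comp_id]

end aux

section fp

variable {𝒳 : BasedCategory.{v₂, u₂} C} {𝒴 : BasedCategory.{v₃, u₃} C}
  {𝒮 : BasedCategory.{v₄, u₄} C} (F : 𝒳 ⥤ᵇ 𝒮) (G : 𝒴 ⥤ᵇ 𝒮)

/-- constructor for morphisms of the 2-fibre product -/
def fpHomMk {z z' : (FibCat.fp F G).obj} (a : z.obj.fst ⟶ z'.obj.fst) (b : z.obj.snd ⟶ z'.obj.snd)
    (w : F.map a ≫ z'.obj.iso.hom = z.obj.iso.hom ≫ G.map b) : z ⟶ z' :=
  ObjectProperty.homMk ⟨a, b, w⟩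

@[simp] theorem fpHomMk_fst {z z' : (FibCat.fp F G).obj} (a : z.obj.fst ⟶ z'.obj.fst)
    (b : z.obj.snd ⟶ z'.obj.snd)
    (w : F.map a ≫ z'.obj.iso.hom = z.obj.iso.hom ≫ G.map b) : (fpHomMk F G a b w).hom.fst = a := rfl

@[simp] theorem fpHomMk_snd {z z' : (FibCat.fp F G).obj} (a : z.obj.fst ⟶ z'.obj.fst)
    (b : z.obj.snd ⟶ z'.obj.snd)
    (w : F.map a ≫ z'.obj.iso.hom = z.obj.iso.hom ≫ G.map b) : (fpHomMk F G a b w).hom.snd = b := rfl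

/-- constructor for isomorphisms of the 2-fibre product -/
def fpIsoMk {z z' : (FibCat.fp F G).obj} (a : z.obj.fst ≅ z'.obj.fst) (b : z.obj.snd ≅ z'.obj.snd)
    (w : F.map a.hom ≫ z'.obj.iso.hom = z.obj.iso.hom ≫ G.map b.hom) : z ≅ z' :=
  (FibCat.fpProp F G).isoMk (CategoricalPullback.mkIso a b w)

@[simp] theorem fpIsoMk_hom_fst {z z' : (FibCat.fp F G).obj} (a : z.obj.fst ≅ z'.obj.fst)
    (b : z.obj.snd ≅ z'.obj.snd)
    (w : F.map a.hom ≫ z'.obj.iso.hom = z.obj.iso.hom ≫ G.map b.hom) :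
    (fpIsoMk F G a b w).hom.hom.fst = a.hom := rfl

@[simp] theorem fpIsoMk_hom_snd {z z' : (FibCat.fp F G).obj} (a : z.obj.fst ≅ z'.obj.fst)
    (b : z.obj.snd ≅ z'.obj.snd)
    (w : F.map a.hom ≫ z'.obj.iso.hom = z.obj.iso.hom ≫ G.map b.hom) :
    (fpIsoMk F G a b w).hom.hom.snd = b.hom := rfl

theorem fp_hom_ext {z z' : (FibCat.fp F G).obj} {m m' : z ⟶ z'} (h1 : m.hom.fst = m'.hom.fst)
    (h2 : m.hom.snd = m'.hom.snd) : m = m' := by
  apply ObjectProperty.hom_ext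
  exact CategoricalPullback.hom_ext h1 h2

@[simp] theorem fp_comp_fst {z z' z'' : (FibCat.fp F G).obj} (m : z ⟶ z') (m' : z' ⟶ z'') :
    (m ≫ m').hom.fst = m.hom.fst ≫ m'.hom.fst := rfl

@[simp] theorem fp_comp_snd {z z' z'' : (FibCat.fp F G).obj} (m : z ⟶ z') (m' : z' ⟶ z'') :
    (m ≫ m').hom.snd = m.hom.snd ≫ m'.hom.snd := rfl

@[simp] theorem fp_id_fst (z : (FibCat.fp F G).obj) : (𝟙 z : z ⟶ z).hom.fst = 𝟙 _ := rfl

@[simp] theorem fp_id_snd (z : (FibCat.fp F G).obj) : (𝟙 z : z ⟶ z).hom.snd = 𝟙 _ := rfl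

@[simp] theorem fpFst_map {z z' : (FibCat.fp F G).obj} (m : z ⟶ z') :
    (FibCat.fpFst F G).map m = m.hom.fst := rfl

@[simp] theorem fpSnd_map {z z' : (FibCat.fp F G).obj} (m : z ⟶ z') :
    (FibCat.fpSnd F G).map m = m.hom.snd := rfl

@[simp] theorem fpFst_obj (z : (FibCat.fp F G).obj) : (FibCat.fpFst F G).obj z = z.obj.fst := rfl

@[simp] theorem fpSnd_obj (z : (FibCat.fp F G).obj) : (FibCat.fpSnd F G).obj z = z.obj.snd := rfl

theorem bapp_fpIso_hom (z : (FibCat.fp F G).obj) :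
    bapp (FibCat.fpIso F G).hom z = z.obj.iso.hom := rfl

variable {𝒜 : BasedCategory.{v₅, u₅} C} {ℬ : BasedCategory.{v₆, u₆} C} (ι : 𝒜 ⥤ᵇ ℬ)

theorem restr_fp_faithful (hX : (Stk.restr ι 𝒳).Faithful) (hY : (Stk.restr ι 𝒴).Faithful) :
    (Stk.restr ι (FibCat.fp F G)).Faithful := by
  rw [restr_faithful_iff] at hX hY ⊢
  intro H H' α β h
  have h1 := hX _ _ (BasedCategory.whiskerRight α (FibCat.fpFst F G))
    (BasedCategory.whiskerRight β (FibCat.fpFst F G)) (fun a => by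
      rw [bapp_whiskerRight, bapp_whiskerRight, h a])
  have h2 := hY _ _ (BasedCategory.whiskerRight α (FibCat.fpSnd F G))
    (BasedCategory.whiskerRight β (FibCat.fpSnd F G)) (fun a => by
      rw [bapp_whiskerRight, bapp_whiskerRight, h a])
  apply bext
  intro b
  apply fp_hom_ext
  · exact congrArg (fun γ => bapp γ b) h1
  · exact congrArg (fun γ => bapp γ b) h2

theorem restr_fp_full (hX : (Stk.restr ι 𝒳).Full) (hY : (Stk.restr ι 𝒴).Full)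
    (hS : (Stk.restr ι 𝒮).Faithful) :
    (Stk.restr ι (FibCat.fp F G)).Full := by
  rw [restr_full_iff] at hX hY ⊢
  rw [restr_faithful_iff] at hS
  intro H H' γ
  obtain ⟨a, ha⟩ := hX (BasedFunctor.comp H (FibCat.fpFst F G))
    (BasedFunctor.comp H' (FibCat.fpFst F G)) (BasedCategory.whiskerRight γ (FibCat.fpFst F G))
  obtain ⟨b, hb⟩ := hY (BasedFunctor.comp H (FibCat.fpSnd F G))
    (BasedFunctor.comp H' (FibCat.fpSnd F G)) (BasedCategory.whiskerRight γ (FibCat.fpSnd F G))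
  -- compatibility
  have hcomp : BasedCategory.whiskerRight a F ≫ BasedCategory.whiskerLeft H' (FibCat.fpIso F G).hom
      = BasedCategory.whiskerLeft H (FibCat.fpIso F G).hom ≫ BasedCategory.whiskerRight b G := by
    apply hS
    intro t
    change F.map (bapp a (ι.obj t)) ≫ (H'.obj (ι.obj t)).obj.iso.hom
      = (H.obj (ι.obj t)).obj.iso.hom ≫ G.map (bapp b (ι.obj t))
    have ha' : bapp a (ι.obj t) = (bapp γ t).hom.fst := ha t
    have hb' : bapp b (ι.obj t) = (bapp γ t).hom.snd := hb t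
    rw [ha', hb']
    exact (bapp γ t).hom.w
  have hw : ∀ t : ℬ.obj, F.map (bapp a t) ≫ (H'.obj t).obj.iso.hom
      = (H.obj t).obj.iso.hom ≫ G.map (bapp b t) := by
    intro t
    exact congrArg (fun γ => bapp γ t) hcomp
  refine ⟨mkB (fun t => fpHomMk F G (bapp a t) (bapp b t) (hw t)) ?_ ?_, ?_⟩
  · intro t t' m
    apply fp_hom_ext
    · exact bapp_naturality a m
    · exact bapp_naturality b m
  · intro t
    have : 𝒳.p.IsHomLift (𝟙 (ℬ.p.obj t)) (fpHomMk F G (bapp a t) (bapp b t) (hw t)).hom.fst :=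
      bapp_isHomLift a t
    exact Groth.Agent.H32.fp_isHomLift_of_fst F G _ _
  · intro t
    apply fp_hom_ext
    · exact ha t
    · exact hb t

theorem fpLift_obj_iso_hom {𝒲 : BasedCategory.{v₅, u₅} C} (a : 𝒲 ⥤ᵇ 𝒳) (b : 𝒲 ⥤ᵇ 𝒴)
    (e : BasedFunctor.comp a F ≅ BasedFunctor.comp b G) (t : 𝒲.obj) :
    ((FibCat.fpLift a b e).obj t).obj.iso.hom = bapp e.hom t := rfl

theorem restr_fp_essSurj (hX : (Stk.restr ι 𝒳).EssSurj) (hY : (Stk.restr ι 𝒴).EssSurj)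
    (hSfull : (Stk.restr ι 𝒮).Full) (hSfaith : (Stk.restr ι 𝒮).Faithful) :
    (Stk.restr ι (FibCat.fp F G)).EssSurj := by
  rw [restr_essSurj_iff] at hX hY ⊢
  rw [restr_full_iff] at hSfull
  rw [restr_faithful_iff] at hSfaith
  intro K
  obtain ⟨A, ⟨e₁⟩⟩ := hX (BasedFunctor.comp K (FibCat.fpFst F G))
  obtain ⟨B, ⟨e₂⟩⟩ := hY (BasedFunctor.comp K (FibCat.fpSnd F G))
  let θhom : BasedFunctor.comp ι (BasedFunctor.comp A F) ⟶ BasedFunctor.comp ι (BasedFunctor.comp B G) :=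
    BasedCategory.whiskerRight e₁.hom F ≫ BasedCategory.whiskerLeft K (FibCat.fpIso F G).hom ≫
      BasedCategory.whiskerRight e₂.inv G
  let θinv : BasedFunctor.comp ι (BasedFunctor.comp B G) ⟶ BasedFunctor.comp ι (BasedFunctor.comp A F) :=
    BasedCategory.whiskerRight e₂.hom G ≫ BasedCategory.whiskerLeft K (FibCat.fpIso F G).inv ≫
      BasedCategory.whiskerRight e₁.inv F
  have hθhom : ∀ t, bapp θhom t = F.map (bapp e₁.hom t) ≫ (K.obj t).obj.iso.hom ≫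
      G.map (bapp e₂.inv t) := fun t => rfl
  have hθinv : ∀ t, bapp θinv t = G.map (bapp e₂.hom t) ≫ (K.obj t).obj.iso.inv ≫
      F.map (bapp e₁.inv t) := fun t => rfl
  obtain ⟨eh, heh⟩ := hSfull (BasedFunctor.comp A F) (BasedFunctor.comp B G) θhom
  obtain ⟨ei, hei⟩ := hSfull (BasedFunctor.comp B G) (BasedFunctor.comp A F) θinv
  have h1 : eh ≫ ei = 𝟙 _ := by
    apply hSfaith
    intro t
    rw [bapp_comp, heh, hei, hθhom, hθinv, bapp_id]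
    have e2 : G.map (bapp e₂.inv t) ≫ G.map (bapp e₂.hom t) = 𝟙 _ := by
      rw [← G.map_comp, bapp_iso_inv_hom, G.map_id]
    have e1 : F.map (bapp e₁.hom t) ≫ F.map (bapp e₁.inv t) = 𝟙 _ := by
      rw [← F.map_comp, bapp_iso_hom_inv, F.map_id]
    exact conj_id_aux (F.map (bapp e₁.hom t)) (F.map (bapp e₁.inv t)) (K.obj t).obj.iso
      (G.map (bapp e₂.hom t)) (G.map (bapp e₂.inv t)) e1 e2
  have h2 : ei ≫ eh = 𝟙 _ := by
    apply hSfaith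
    intro t
    rw [bapp_comp, heh, hei, hθhom, hθinv, bapp_id]
    have e2 : G.map (bapp e₂.hom t) ≫ G.map (bapp e₂.inv t) = 𝟙 _ := by
      rw [← G.map_comp, bapp_iso_hom_inv, G.map_id]
    have e1 : F.map (bapp e₁.inv t) ≫ F.map (bapp e₁.hom t) = 𝟙 _ := by
      rw [← F.map_comp, bapp_iso_inv_hom, F.map_id]
    exact conj_id_aux' (F.map (bapp e₁.hom t)) (F.map (bapp e₁.inv t)) (K.obj t).obj.iso
      (G.map (bapp e₂.hom t)) (G.map (bapp e₂.inv t)) e1 e2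
  let e : BasedFunctor.comp A F ≅ BasedFunctor.comp B G := ⟨eh, ei, h1, h2⟩
  refine ⟨FibCat.fpLift A B e, ⟨?_⟩⟩
  have hw : ∀ t : 𝒜.obj, F.map (bapp e₁.hom t) ≫ (K.obj t).obj.iso.hom
      = bapp eh (ι.obj t) ≫ G.map (bapp e₂.hom t) := by
    intro t
    rw [heh, hθhom]
    have e2 : G.map (bapp e₂.inv t) ≫ G.map (bapp e₂.hom t) = 𝟙 _ := by
      rw [← G.map_comp, bapp_iso_inv_hom, G.map_id]
    exact cancel_aux (F.map (bapp e₁.hom t)) (K.obj t).obj.iso.hom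
      (G.map (bapp e₂.hom t)) (G.map (bapp e₂.inv t)) e2
  refine mkBIso (fun t => fpIsoMk F G (z := (BasedFunctor.comp ι (FibCat.fpLift A B e)).obj t)
    (z' := K.obj t) (bappIso e₁ t) (bappIso e₂ t) (hw t)) ?_ ?_
  · intro t t' m
    apply fp_hom_ext
    · exact bapp_naturality e₁.hom m
    · exact bapp_naturality e₂.hom m
  · intro t
    have : 𝒳.p.IsHomLift (𝟙 (𝒜.p.obj t)) (fpIsoMk F G
        (z := (BasedFunctor.comp ι (FibCat.fpLift A B e)).obj t)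
        (z' := K.obj t) (bappIso e₁ t) (bappIso e₂ t) (hw t)).hom.hom.fst :=
      bapp_isHomLift e₁.hom t
    exact Groth.Agent.H32.fp_isHomLift_of_fst F G _ _

theorem restr_fp_isEquivalence (hX : (Stk.restr ι 𝒳).IsEquivalence)
    (hY : (Stk.restr ι 𝒴).IsEquivalence)
    (hS : (Stk.restr ι 𝒮).Full ∧ (Stk.restr ι 𝒮).Faithful) :
    (Stk.restr ι (FibCat.fp F G)).IsEquivalence := by
  have h1 := restr_fp_faithful F G ι hX.faithful hY.faithful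
  have h2 := restr_fp_full F G ι hX.full hY.full hS.2
  have h3 := restr_fp_essSurj F G ι hX.essSurj hY.essSurj hS.1 hS.2
  exact { faithful := h1, full := h2, essSurj := h3 }

theorem isStack_fp (J : GrothendieckTopology C) (h𝒳 : Stk.IsStack J 𝒳) (h𝒴 : Stk.IsStack J 𝒴)
    (h𝒮 : Stk.IsPrestack J 𝒮) : Stk.IsStack J (FibCat.fp F G) := by
  refine ⟨Groth.Agent.H32.isFibGrpd_fp F G h𝒳.1 h𝒴.1 h𝒮.1, ?_⟩
  intro U R hR
  exact restr_fp_isEquivalence F G (Stk.sieveIncl R) (h𝒳.2 R hR) (h𝒴.2 R hR) (h𝒮.2 R hR)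

end fp

end Groth.Agent.H64
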