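import Groth.Agent.H64.Stk.EquivOver
import Groth.Agent.H64.Stk.Lift
import Groth.Agent.H32.Yoneda

set_option autoImplicit false
open CategoryTheory CategoryTheory.Limits
universe v₆ u₆ v₅ u₅ v₄ u₄ v₃ u₃ v₂ u₂ v u

namespace Groth.Agent.H64

open Groth.Agent.H32

variable {C : Type u} [Category.{v} C]

section mkBased

variable {𝒜 : BasedCategory.{v₂, u₂} C} {𝒳 : BasedCategory.{v₃, u₃} C}

/-- a functor whose values on morphisms lie over the right morphisms is a functor over `C` -/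
def mkBasedFunctor (K : 𝒜.obj ⥤ 𝒳.obj)
    (h : ∀ {a b : 𝒜.obj} (m : a ⟶ b), 𝒳.p.IsHomLift (𝒜.p.map m) (K.map m)) : 𝒜 ⥤ᵇ 𝒳 where
  toFunctor := K
  w := by
    have hobj : ∀ a, (K ⋙ 𝒳.p).obj a = 𝒜.p.obj a := fun a => by
      have := h (𝟙 a)
      exact IsHomLift.domain_eq 𝒳.p (𝒜.p.map (𝟙 a)) (K.map (𝟙 a))
    refine CategoryTheory.Functor.ext hobj ?_
    intro a b m
    have := h m
    exact IsHomLift.fac' 𝒳.p (𝒜.p.map m) (K.map m)

@[simp] theorem mkBasedFunctor_obj (K : 𝒜.obj ⥤ 𝒳.obj)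
    (h : ∀ {a b : 𝒜.obj} (m : a ⟶ b), 𝒳.p.IsHomLift (𝒜.p.map m) (K.map m)) (a : 𝒜.obj) :
    (mkBasedFunctor K h).obj a = K.obj a := rfl

@[simp] theorem mkBasedFunctor_map (K : 𝒜.obj ⥤ 𝒳.obj)
    (h : ∀ {a b : 𝒜.obj} (m : a ⟶ b), 𝒳.p.IsHomLift (𝒜.p.map m) (K.map m)) {a b : 𝒜.obj}
    (m : a ⟶ b) : (mkBasedFunctor K h).map m = K.map m := rfl

end mkBased

section essSurjOver

variable {𝒳 : BasedCategory.{v₂, u₂} C} {𝒴 : BasedCategory.{v₃, u₃} C} (F : 𝒳 ⥤ᵇ 𝒴)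
  [F.toFunctor.Full] [F.toFunctor.Faithful]

/-- A fully faithful functor over `C` that is essentially surjective on fibres is an equivalence
over `C`. -/
theorem isEquivOver_of_fullyFaithful_of_fiberwise_essSurj
    (h : ∀ η : 𝒴.obj, ∃ (ξ : 𝒳.obj) (e : F.obj ξ ≅ η), 𝒴.p.IsHomLift (𝟙 (𝒴.p.obj η)) e.hom) :
    FibCat.IsEquivOver F := by
  choose ξ e he using h
  have hei : ∀ η, 𝒴.p.IsHomLift (𝟙 (𝒴.p.obj η)) (e η).inv := fun η => by
    have := he η
    exact IsHomLift.lift_id_inv 𝒴.p _ (e η)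
  let G₀ : 𝒴.obj ⥤ 𝒳.obj :=
    { obj := ξ
      map := fun {a b} ψ => F.toFunctor.preimage ((e a).hom ≫ ψ ≫ (e b).inv)
      map_id := fun a => by
        apply F.toFunctor.map_injective
        simp
      map_comp := fun {a b c} ψ ψ' => by
        apply F.toFunctor.map_injective
        simp }
  have hG₀ : ∀ {a b : 𝒴.obj} (ψ : a ⟶ b), F.map (G₀.map ψ) = (e a).hom ≫ ψ ≫ (e b).inv :=
    fun ψ => F.toFunctor.map_preimage _
  let G : 𝒴 ⥤ᵇ 𝒳 := mkBasedFunctor G₀ (fun {a b} ψ => by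
    have h1 := he a
    have h2 := hei b
    have h3 : 𝒴.p.IsHomLift (𝒴.p.map ψ) ψ := inferInstance
    have h4 : 𝒴.p.IsHomLift (𝟙 _ ≫ 𝒴.p.map ψ ≫ 𝟙 _) ((e a).hom ≫ ψ ≫ (e b).inv) := inferInstance
    rw [Category.comp_id, Category.id_comp] at h4
    have h5 : 𝒴.p.IsHomLift (𝒴.p.map ψ) (F.map (G₀.map ψ)) := by rw [hG₀]; exact h4
    exact BasedFunctor.isHomLift_map F _ _)
  have hGobj : ∀ a, 𝒳.p.obj (ξ a) = 𝒴.p.obj a := fun a => G.w_obj a
  refine ⟨G, ⟨?_⟩, ⟨?_⟩⟩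
  · -- F ⋙ G ≅ 𝟭
    refine mkBIso (H := BasedFunctor.comp F G) (H' := BasedFunctor.id 𝒳)
      (fun a => F.toFunctor.preimageIso (e (F.obj a))) ?_ ?_
    · intro a b m
      apply F.toFunctor.map_injective
      show F.map (G₀.map (F.map m) ≫ F.toFunctor.preimage (e (F.obj b)).hom)
        = F.map (F.toFunctor.preimage (e (F.obj a)).hom ≫ m)
      rw [Functor.map_comp, Functor.map_comp, hG₀, Functor.map_preimage, Functor.map_preimage]
      simp
    · intro a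
      have h1 := he (F.obj a)
      have h2 : 𝒴.p.IsHomLift (𝟙 (𝒴.p.obj (F.obj a)))
          (F.map (F.toFunctor.preimage (e (F.obj a)).hom)) := by
        rw [Functor.map_preimage]; exact h1
      have h3 : 𝒴.p.obj (F.obj a) = 𝒳.p.obj a := F.w_obj a
      rw [h3] at h2
      exact (BasedFunctor.isHomLift_iff F _ _).mp h2
  · -- G ⋙ F ≅ 𝟭
    refine mkBIso (H := BasedFunctor.comp G F) (H' := BasedFunctor.id 𝒴) (fun a => e a) ?_ ?_
    · intro a b ψ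
      show F.map (G₀.map ψ) ≫ (e b).hom = (e a).hom ≫ ψ
      rw [hG₀]
      simp
    · intro a
      exact he a

end essSurjOver

section descent

variable {𝒳 : BasedCategory.{v₂, u₂} C} {𝒴 : BasedCategory.{v₃, u₃} C} (F : 𝒳 ⥤ᵇ 𝒴)
  [F.toFunctor.Full] [F.toFunctor.Faithful] (h𝒴 : FibCat.IsFibGrpd 𝒴.p)
  {y : 𝒴.obj} (R : Sieve (𝒴.p.obj y))
  (x : ∀ ⦃V : C⦄ (f : V ⟶ 𝒴.p.obj y), R f → 𝒳.obj)
  (φ : ∀ ⦃V : C⦄ (f : V ⟶ 𝒴.p.obj y) (hf : R f), F.obj (x f hf) ⟶ y)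
  (hφ : ∀ ⦃V : C⦄ (f : V ⟶ 𝒴.p.obj y) (hf : R f), 𝒴.p.IsHomLift f (φ f hf))

omit [F.toFunctor.Full] [F.toFunctor.Faithful] in
include h𝒴 hφ in
theorem descent_exists {r' r : (Stk.sieveCat R).obj} (m : r' ⟶ r) :
    ∃! χ : F.obj (x r'.obj.hom r'.property) ⟶ F.obj (x r.obj.hom r.property),
      𝒴.p.IsHomLift m.hom.left χ ∧ χ ≫ φ r.obj.hom r.property = φ r'.obj.hom r'.property := by
  have := hφ r.obj.hom r.property
  have := hφ r'.obj.hom r'.property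
  have := isStronglyCartesian_of_fibGrpd 𝒴.p h𝒴 r.obj.hom (φ r.obj.hom r.property)
  exact Functor.IsStronglyCartesian.universal_property 𝒴.p r.obj.hom (φ r.obj.hom r.property)
    m.hom.left r'.obj.hom (Over.w m.hom).symm (φ r'.obj.hom r'.property)

/-- the transition morphisms of the descent datum, in `𝒴` -/
noncomputable def descMap {r' r : (Stk.sieveCat R).obj} (m : r' ⟶ r) :
    F.obj (x r'.obj.hom r'.property) ⟶ F.obj (x r.obj.hom r.property) :=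
  (descent_exists F h𝒴 R x φ hφ m).exists.choose

omit [F.toFunctor.Full] [F.toFunctor.Faithful] in
theorem descMap_isHomLift {r' r : (Stk.sieveCat R).obj} (m : r' ⟶ r) :
    𝒴.p.IsHomLift m.hom.left (descMap F h𝒴 R x φ hφ m) :=
  (descent_exists F h𝒴 R x φ hφ m).exists.choose_spec.1

omit [F.toFunctor.Full] [F.toFunctor.Faithful] in
theorem descMap_fac {r' r : (Stk.sieveCat R).obj} (m : r' ⟶ r) :
    descMap F h𝒴 R x φ hφ m ≫ φ r.obj.hom r.property = φ r'.obj.hom r'.property :=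
  (descent_exists F h𝒴 R x φ hφ m).exists.choose_spec.2

theorem descMap_uniq {r' r : (Stk.sieveCat R).obj} (m : r' ⟶ r)
    (χ : F.obj (x r'.obj.hom r'.property) ⟶ F.obj (x r.obj.hom r.property))
    (h1 : 𝒴.p.IsHomLift m.hom.left χ)
    (h2 : χ ≫ φ r.obj.hom r.property = φ r'.obj.hom r'.property) :
    χ = descMap F h𝒴 R x φ hφ m :=
  (descent_exists F h𝒴 R x φ hφ m).unique ⟨h1, h2⟩
    ⟨descMap_isHomLift F h𝒴 R x φ hφ m, descMap_fac F h𝒴 R x φ hφ m⟩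

/-- the descent datum in `𝒳` built from local preimages -/
noncomputable def descFunctor : (Stk.sieveCat R).obj ⥤ 𝒳.obj where
  obj r := x r.obj.hom r.property
  map {r' r} m := F.toFunctor.preimage (descMap F h𝒴 R x φ hφ m)
  map_id r := by
    apply F.toFunctor.map_injective
    refine (F.toFunctor.map_preimage _).trans ?_
    refine Eq.trans ?_ (F.toFunctor.map_id _).symm
    symm
    apply descMap_uniq
    · have := hφ r.obj.hom r.property
      have h1 : 𝒴.p.obj (F.obj (x r.obj.hom r.property)) = r.obj.left :=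
        IsHomLift.domain_eq 𝒴.p r.obj.hom (φ r.obj.hom r.property)
      exact IsHomLift.id h1
    · exact Category.id_comp _
  map_comp {r'' r' r} m m' := by
    apply F.toFunctor.map_injective
    refine (F.toFunctor.map_preimage _).trans ?_
    refine Eq.trans ?_ (F.toFunctor.map_comp _ _).symm
    rw [Functor.map_preimage, Functor.map_preimage]
    symm
    apply descMap_uniq
    · have := descMap_isHomLift F h𝒴 R x φ hφ m
      have := descMap_isHomLift F h𝒴 R x φ hφ m'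
      exact IsHomLift.comp 𝒴.p m.hom.left m'.hom.left _ _
    · rw [Category.assoc, descMap_fac, descMap_fac]

/-- the descent datum as a functor over `C` -/
noncomputable def descBased : Stk.sieveCat R ⥤ᵇ 𝒳 :=
  mkBasedFunctor (descFunctor F h𝒴 R x φ hφ) (fun {r' r} m => by
    have h1 : 𝒴.p.IsHomLift m.hom.left (F.map ((descFunctor F h𝒴 R x φ hφ).map m)) := by
      have : F.map ((descFunctor F h𝒴 R x φ hφ).map m) = descMap F h𝒴 R x φ hφ m :=
        F.toFunctor.map_preimage _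
      rw [this]
      exact descMap_isHomLift F h𝒴 R x φ hφ m
    exact (BasedFunctor.isHomLift_iff F _ _).mp h1)

theorem descBased_map_fac {r' r : (Stk.sieveCat R).obj} (m : r' ⟶ r) :
    F.map ((descBased F h𝒴 R x φ hφ).map m) ≫ φ r.obj.hom r.property = φ r'.obj.hom r'.property := by
  have : F.map ((descBased F h𝒴 R x φ hφ).map m) = descMap F h𝒴 R x φ hφ m :=
    F.toFunctor.map_preimage _
  rw [this]
  exact descMap_fac F h𝒴 R x φ hφ m

end descent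

section aux2

variable {D : Type u₂} [Category.{v₂} D]

theorem nat_aux {A B Xr Xr' Yr Yr' y : D} (a : A ⟶ B) (γr : B ⟶ Yr) (pr : Yr ⟶ y) (tr : B ⟶ Xr)
    (φr : Xr ⟶ y) (tr' : A ⟶ Xr') (k : Xr' ⟶ Xr) (φr' : Xr' ⟶ y) (γr' : A ⟶ Yr') (pr' : Yr' ⟶ y)
    (Ym : Yr' ⟶ Yr) (h1 : γr ≫ pr = tr ≫ φr) (h2 : a ≫ tr = tr' ≫ k) (h3 : k ≫ φr = φr')
    (h4 : γr' ≫ pr' = tr' ≫ φr') (h5 : Ym ≫ pr = pr') :
    (a ≫ γr) ≫ pr = (γr' ≫ Ym) ≫ pr := by
  rw [Category.assoc, h1, ← Category.assoc, h2, Category.assoc, h3, Category.assoc, h5, h4]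

end aux2

section main

variable {𝒳 : BasedCategory.{v₂, u₂} C} {𝒴 : BasedCategory.{v₃, u₃} C} (F : 𝒳 ⥤ᵇ 𝒴)
  [F.toFunctor.Full] [F.toFunctor.Faithful]

/-- A fully faithful functor over `C` from a category where descent data along `J`-coverings are
effective to one where morphisms glue, all of whose objects are locally in the essential image,
is essentially surjective on fibres. -/
theorem exists_iso_of_locally_essSurj (J : GrothendieckTopology C) (h𝒴 : FibCat.IsFibGrpd 𝒴.p)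
    (hX : ∀ ⦃U : C⦄ (R : Sieve U), R ∈ J U → (Stk.resSieve R 𝒳).EssSurj)
    (hY : ∀ ⦃U : C⦄ (R : Sieve U), R ∈ J U → (Stk.resSieve R 𝒴).Full)
    (hF : ∀ y : 𝒴.obj, ∃ R ∈ J (𝒴.p.obj y), ∀ ⦃V : C⦄ (f : V ⟶ 𝒴.p.obj y), R f →
      ∃ (x : 𝒳.obj) (φ : F.obj x ⟶ y), 𝒴.p.IsHomLift f φ) (y : 𝒴.obj) :
    ∃ (x : 𝒳.obj) (e : F.obj x ≅ y), 𝒴.p.IsHomLift (𝟙 (𝒴.p.obj y)) e.hom := by
  obtain ⟨R, hR, hloc⟩ := hF y
  choose x φ hφ using hloc
  obtain ⟨H, ⟨θ⟩⟩ := (restr_essSurj_iff _ _).mp (hX R hR) (descBased F h𝒴 R x φ hφ)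
  have hfib : 𝒴.p.IsFibered := isFibered_of_fibGrpd _ h𝒴
  -- the components of the comparison with the Yoneda functor of `y`
  have hlift : ∀ r : (Stk.sieveCat R).obj, 𝒴.p.IsHomLift r.obj.hom
      (F.map (bapp θ.hom r) ≫ φ r.obj.hom r.property) := by
    intro r
    have h1 : 𝒳.p.IsHomLift (𝟙 r.obj.left) (bapp θ.hom r) := bapp_isHomLift θ.hom r
    have h2 : 𝒴.p.IsHomLift (𝟙 r.obj.left) (F.map (bapp θ.hom r)) :=
      (BasedFunctor.isHomLift_iff F _ _).mpr h1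
    exact lift_comp_id_left 𝒴.p h2 (hφ r.obj.hom r.property)
  have hs : ∀ r : (Stk.sieveCat R).obj,
      𝒴.p.IsStronglyCartesian r.obj.hom (yonedaProj y rfl r.obj) := fun r =>
    yonedaProj_isStronglyCartesian y rfl r.obj
  have hγ : ∀ r : (Stk.sieveCat R).obj, ∃ χ : F.obj (H.obj r.obj) ⟶ (yonedaFunctor y rfl).obj r.obj,
      𝒴.p.IsHomLift (𝟙 r.obj.left) χ ∧ χ ≫ yonedaProj y rfl r.obj =
        F.map (bapp θ.hom r) ≫ φ r.obj.hom r.property := fun r =>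
    cart_lift_id 𝒴.p (hs r) _ (hlift r)
  choose γapp hγl hγfac using hγ
  have hγnat : ∀ {r' r : (Stk.sieveCat R).obj} (m : r' ⟶ r),
      F.map (H.map m.hom) ≫ γapp r = γapp r' ≫ (yonedaFunctor y rfl).map m.hom := by
    intro r' r m
    have h1 : 𝒳.p.IsHomLift m.hom.left (H.map m.hom) := und_map_isHomLift H m.hom
    have h2 : 𝒴.p.IsHomLift m.hom.left (F.map (H.map m.hom)) :=
      (BasedFunctor.isHomLift_iff F _ _).mpr h1
    have h5 : 𝒴.p.IsHomLift m.hom.left ((yonedaFunctor y rfl).map m.hom) :=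
      yonedaFunctor_map_isHomLift y rfl m.hom
    have hL : 𝒴.p.IsHomLift m.hom.left (F.map (H.map m.hom) ≫ γapp r) :=
      lift_comp_id_right 𝒴.p h2 (hγl r)
    have hR' : 𝒴.p.IsHomLift m.hom.left (γapp r' ≫ (yonedaFunctor y rfl).map m.hom) :=
      lift_comp_id_left 𝒴.p (hγl r') h5
    apply cart_ext 𝒴.p (hs r) m.hom.left hL hR'
    have hnat : H.map m.hom ≫ bapp θ.hom r = bapp θ.hom r' ≫ (descBased F h𝒴 R x φ hφ).map m :=
      bapp_naturality θ.hom m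
    have h2' : F.map (H.map m.hom) ≫ F.map (bapp θ.hom r) =
        F.map (bapp θ.hom r') ≫ F.map ((descBased F h𝒴 R x φ hφ).map m) :=
      (F.toFunctor.map_comp _ _).symm.trans
        ((congrArg F.toFunctor.map hnat).trans (F.toFunctor.map_comp _ _))
    exact nat_aux (F.map (H.map m.hom)) (γapp r) (yonedaProj y rfl r.obj) (F.map (bapp θ.hom r))
      (φ r.obj.hom r.property) (F.map (bapp θ.hom r')) (F.map ((descBased F h𝒴 R x φ hφ).map m))
      (φ r'.obj.hom r'.property) (γapp r') (yonedaProj y rfl r'.obj)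
      ((yonedaFunctor y rfl).map m.hom) (hγfac r) h2' (descBased_map_fac F h𝒴 R x φ hφ m)
      (hγfac r') (yonedaFunctor_map_fac y rfl m.hom)
  let γ : BasedFunctor.comp (Stk.sieveIncl R) (BasedFunctor.comp H F) ⟶
      BasedFunctor.comp (Stk.sieveIncl R) (yonedaBased y rfl) :=
    mkB γapp (fun m => hγnat m) hγl
  obtain ⟨α, -⟩ := (restr_full_iff _ _).mp (hY R hR) _ _ γ
  let T : Over (𝒴.p.obj y) := ovT (𝒴.p.obj y)
  have hα : 𝒴.p.IsHomLift (𝟙 (𝒴.p.obj y)) (bapp α T) := bapp_isHomLift α T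
  have hproj : 𝒴.p.IsHomLift (𝟙 (𝒴.p.obj y)) (yonedaProj y rfl T) :=
    (yonedaProj_isStronglyCartesian y rfl T).toIsHomLift
  let e : F.obj (H.obj T) ⟶ y := bapp α T ≫ yonedaProj y rfl T
  have he : 𝒴.p.IsHomLift (𝟙 (𝒴.p.obj y)) e := lift_id_comp_id 𝒴.p hα hproj
  have hiso : IsIso e := isIso_of_lift_id 𝒴.p h𝒴 he
  exact ⟨H.obj T, @asIso _ _ _ _ e hiso, he⟩

omit [F.toFunctor.Full] [F.toFunctor.Faithful] in
theorem locally_essSurj_of_isEquivOver (J : GrothendieckTopology C) (h𝒴 : FibCat.IsFibGrpd 𝒴.p)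
    (hF : FibCat.IsEquivOver F) (y : 𝒴.obj) :
    ∃ R ∈ J (𝒴.p.obj y), ∀ ⦃V : C⦄ (f : V ⟶ 𝒴.p.obj y), R f →
      ∃ (x : 𝒳.obj) (φ : F.obj x ⟶ y), 𝒴.p.IsHomLift f φ := by
  refine ⟨⊤, J.top_mem _, fun V f _ => ?_⟩
  obtain ⟨d⟩ := IsEquivOver.nonempty_data hF
  obtain ⟨y', ψ, hψ⟩ := h𝒴.exists_lift f
  have hε : 𝒴.p.IsHomLift (𝟙 (𝒴.p.obj y')) (d.counitIso.hom.app y') := d.counit_isHomLift y'
  exact ⟨d.inv.obj y', d.counitIso.hom.app y' ≫ ψ,
    IsHomLift.comp_lift_id_left' 𝒴.p (𝒴.p.obj y') (d.counitIso.hom.app y') f ψ⟩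

theorem isEquivOver_iff_locally_essSurj (J : GrothendieckTopology C)
    (h𝒳 : Stk.IsStack J 𝒳) (h𝒴 : Stk.IsStack J 𝒴) :
    FibCat.IsEquivOver F ↔
      ∀ y : 𝒴.obj, ∃ R ∈ J (𝒴.p.obj y), ∀ ⦃V : C⦄ (f : V ⟶ 𝒴.p.obj y), R f →
        ∃ (x : 𝒳.obj) (φ : F.obj x ⟶ y), 𝒴.p.IsHomLift f φ := by
  constructor
  · intro hF y
    exact locally_essSurj_of_isEquivOver F J h𝒴.1 hF y
  · intro hF
    apply isEquivOver_of_fullyFaithful_of_fiberwise_essSurj F
    exact exists_iso_of_locally_essSurj F J h𝒴.1 (fun U R hR => (h𝒳.2 R hR).essSurj)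
      (fun U R hR => (h𝒴.2 R hR).full) hF

end main

end Groth.Agent.H64
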