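import Groth.Agent.H64.Stk.FpFstThin

set_option autoImplicit false
universe u v u₂ v₂ u₃ v₃ u₄ v₄
open CategoryTheory CategoryTheory.Limits

/-! The base category over itself is a prestack (indeed a stack) for every topology. -/

namespace Groth.Agent.H64

variable {C : Type u} [Category.{v} C]

section
variable {ℬ : BasedCategory.{v₃, u₃} C}

/-- any two 2-morphisms between functors to `selfOver C` agree -/
theorem self_bnat_subsingleton {H H' : ℬ ⥤ᵇ FibCat.selfOver C} (α β : H ⟶ H') : α = β := by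
  apply bext
  intro b
  exact @Groth.Agent.H26.self_hom_ext _ _ _ _ (𝟙 (ℬ.p.obj b)) _ _ _ _
    (bapp_isHomLift α b) (bapp_isHomLift β b)

/-- a 2-morphism between functors to `selfOver C` always exists -/
theorem self_bnat_nonempty (H H' : ℬ ⥤ᵇ FibCat.selfOver C) : Nonempty (H ⟶ H') := by
  have hobj : ∀ b : ℬ.obj, H.obj b = H'.obj b := fun b => (H.w_obj b).trans (H'.w_obj b).symm
  have hl : ∀ b : ℬ.obj, (FibCat.selfOver C).p.IsHomLift (𝟙 (ℬ.p.obj b)) (eqToHom (hobj b)) := by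
    intro b
    have h1 : (FibCat.selfOver C).p.obj (H.obj b) = ℬ.p.obj b := H.w_obj b
    have h2 : (FibCat.selfOver C).p.obj (H'.obj b) = ℬ.p.obj b := H'.w_obj b
    exact IsHomLift.eqToHom_codomain_lift_id (hobj b) h2
  refine ⟨mkB (fun b => eqToHom (hobj b)) ?_ hl⟩
  intro a b m
  have hm1 : (FibCat.selfOver C).p.IsHomLift (ℬ.p.map m) (H.map m) := inferInstance
  have hm2 : (FibCat.selfOver C).p.IsHomLift (ℬ.p.map m) (H'.map m) := inferInstance
  have hL : (FibCat.selfOver C).p.IsHomLift (ℬ.p.map m) (H.map m ≫ eqToHom (hobj b)) := by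
    have := hl b
    exact IsHomLift.comp_lift_id_right (FibCat.selfOver C).p (ℬ.p.map m) (H.map m) (eqToHom (hobj b))
  have hR : (FibCat.selfOver C).p.IsHomLift (ℬ.p.map m) (eqToHom (hobj a) ≫ H'.map m) := by
    have := hl a
    exact IsHomLift.comp_lift_id_left (FibCat.selfOver C).p (ℬ.p.map m) (H'.map m) (eqToHom (hobj a))
  exact @Groth.Agent.H26.self_hom_ext _ _ _ _ (ℬ.p.map m) _ _ _ _ hL hR

/-- any two functors to `selfOver C` are 2-isomorphic -/
theorem self_biso_nonempty (H H' : ℬ ⥤ᵇ FibCat.selfOver C) : Nonempty (H ≅ H') := by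
  obtain ⟨α⟩ := self_bnat_nonempty H H'
  obtain ⟨β⟩ := self_bnat_nonempty H' H
  exact ⟨⟨α, β, self_bnat_subsingleton _ _, self_bnat_subsingleton _ _⟩⟩

end

theorem restr_self_faithful {𝒜 : BasedCategory.{v₂, u₂} C} {ℬ : BasedCategory.{v₃, u₃} C}
    (ι : 𝒜 ⥤ᵇ ℬ) : (Stk.restr ι (FibCat.selfOver C)).Faithful :=
  ⟨fun {_ _} α β _ => self_bnat_subsingleton α β⟩

theorem restr_self_full {𝒜 : BasedCategory.{v₂, u₂} C} {ℬ : BasedCategory.{v₃, u₃} C}
    (ι : 𝒜 ⥤ᵇ ℬ) : (Stk.restr ι (FibCat.selfOver C)).Full := by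
  refine ⟨fun {H H'} γ => ?_⟩
  obtain ⟨α⟩ := self_bnat_nonempty H H'
  exact ⟨α, self_bnat_subsingleton _ _⟩

theorem isPrestack_selfOver (J : GrothendieckTopology C) : Stk.IsPrestack J (FibCat.selfOver C) :=
  ⟨isFibGrpd_selfOver C, fun _ R _ => ⟨restr_self_full (Stk.sieveIncl R), restr_self_faithful (Stk.sieveIncl R)⟩⟩

end Groth.Agent.H64
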