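import Groth.Agent.H64.Stk.EquivTools

set_option autoImplicit false
open CategoryTheory CategoryTheory.Limits
universe v₄ u₄ v₃ u₃ v₂ u₂ v u

/-! Symmetry of the 2-fibre product over `C`. -/

namespace Groth.Agent.H64

open Groth.Agent.H32

variable {C : Type u} [Category.{v} C] {𝒳 : BasedCategory.{v₂, u₂} C}
  {𝒴 : BasedCategory.{v₃, u₃} C} {𝒮 : BasedCategory.{v₄, u₄} C}
  (F : 𝒳 ⥤ᵇ 𝒮) (G : 𝒴 ⥤ᵇ 𝒮)

/-- the swap `𝒳 ×_𝒮 𝒴 ⟶ 𝒴 ×_𝒮 𝒳` -/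
def fpSwap : FibCat.fp F G ⥤ᵇ FibCat.fp G F :=
  FibCat.fpLift (FibCat.fpSnd F G) (FibCat.fpFst F G) (FibCat.fpIso F G).symm

theorem fpSwap_comp_fpSwap :
    BasedFunctor.comp (fpSwap F G) (fpSwap G F) = BasedFunctor.id (FibCat.fp F G) := rfl

theorem fpSwap_comp_fpFst :
    BasedFunctor.comp (fpSwap F G) (FibCat.fpFst G F) = FibCat.fpSnd F G := rfl

theorem fpSwap_comp_fpSnd :
    BasedFunctor.comp (fpSwap F G) (FibCat.fpSnd G F) = FibCat.fpFst F G := rfl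

theorem isEquivOver_fpSwap : FibCat.IsEquivOver (fpSwap F G) :=
  ⟨fpSwap G F, ⟨eqToIso (fpSwap_comp_fpSwap F G)⟩, ⟨eqToIso (fpSwap_comp_fpSwap G F)⟩⟩

end Groth.Agent.H64
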