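import Groth.Agent.H64.Stk.FpStack
import Groth.Agent.H32.Diag
import Groth.Agent.H26.FpSelf
import Groth.Agent.S6411

set_option autoImplicit false
universe u v u₂ v₂ u₃ v₃ u₄ v₄
open CategoryTheory CategoryTheory.Limits

namespace Groth.Agent.H64

variable {C : Type u} [Category.{v} C] {𝒳 : BasedCategory.{v₂, u₂} C} {𝒴 : BasedCategory.{v₃, u₃} C}
  {𝒵 : BasedCategory.{v₄, u₄} C}

/-- the fibres of the first projection `𝒵 ×_𝒴 𝒳 ⟶ 𝒵` are thin when `F : 𝒳 ⟶ 𝒴` is faithful -/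
theorem fpFst_fiber_thin (G : 𝒵 ⥤ᵇ 𝒴) (F : 𝒳 ⥤ᵇ 𝒴) [F.toFunctor.Faithful] (A : 𝒵.obj) :
    Quiver.IsThin ((FibCat.fpFst G F).toFunctor.Fiber A) := by
  intro X Y
  refine ⟨fun φ ψ => ?_⟩
  apply Functor.Fiber.hom_ext
  have hφ : (FibCat.fpFst G F).toFunctor.IsHomLift (𝟙 A) φ.1 := φ.2
  have hψ : (FibCat.fpFst G F).toFunctor.IsHomLift (𝟙 A) ψ.1 := ψ.2
  have h1 : (FibCat.fpFst G F).toFunctor.map φ.1 = (FibCat.fpFst G F).toFunctor.map ψ.1 := by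
    rw [IsHomLift.fac' (FibCat.fpFst G F).toFunctor (𝟙 A) φ.1,
      IsHomLift.fac' (FibCat.fpFst G F).toFunctor (𝟙 A) ψ.1]
  have h1' : φ.1.hom.fst = ψ.1.hom.fst := h1
  apply fp_hom_ext G F h1'
  apply F.toFunctor.map_injective
  have w1 := φ.1.hom.w
  have w2 := ψ.1.hom.w
  have e1 : F.map φ.1.hom.snd = X.1.obj.iso.inv ≫ G.map φ.1.hom.fst ≫ Y.1.obj.iso.hom := by
    rw [Iso.eq_inv_comp]; exact w1.symm
  have e2 : F.map ψ.1.hom.snd = X.1.obj.iso.inv ≫ G.map ψ.1.hom.fst ≫ Y.1.obj.iso.hom := by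
    rw [Iso.eq_inv_comp]; exact w2.symm
  rw [h1'] at e1
  exact e1.trans e2.symm

/-- the identity functor is fibred in groupoids -/
theorem isFibGrpd_selfOver (C : Type u) [Category.{v} C] : FibCat.IsFibGrpd (FibCat.selfOver C).p := by
  refine ⟨?_, ?_⟩
  · intro x V f
    exact ⟨V, f, Groth.Agent.H26.self_isHomLift_self (a := V) (b := x) f⟩
  · intro y x φ
    exact Groth.Agent.H26.self_isStronglyCartesian _ φ

/-- the diagonal is faithful -/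
theorem faithful_diag (G : 𝒳 ⥤ᵇ 𝒴) : (FibCat.diag G).toFunctor.Faithful := by
  refine ⟨fun {x y} φ ψ h => ?_⟩
  have := congrArg (fun m => m.hom.fst) h
  exact this

theorem isFibSetoid_fpFst_pair_diag {𝒮 : BasedCategory.{v, max u v} C} (h𝒮 : FibCat.IsFibGrpd 𝒮.p)
    (U : C) (x y : FibCat.overCat U ⥤ᵇ 𝒮)
    (e : BasedFunctor.comp x (FibCat.toSelf 𝒮) ≅ BasedFunctor.comp y (FibCat.toSelf 𝒮)) :
    FibCat.IsFibSetoid (FibCat.fpFst (FibCat.fpLift x y e) (FibCat.diag (FibCat.toSelf 𝒮))).toFunctor := by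
  have h2 : FibCat.IsFibGrpd (FibCat.fp (FibCat.toSelf 𝒮) (FibCat.toSelf 𝒮)).p :=
    Groth.Agent.H32.isFibGrpd_fp _ _ h𝒮 h𝒮 (isFibGrpd_selfOver C)
  have := faithful_diag (FibCat.toSelf 𝒮)
  refine ⟨Groth.Agent.S6411.result h𝒮 h2 (FibCat.diag (FibCat.toSelf 𝒮)) U (FibCat.fpLift x y e), ?_⟩
  intro A
  exact fpFst_fiber_thin _ _ A

end Groth.Agent.H64
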