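import Groth.Agent.H64.Stk.FpPaste

set_option autoImplicit false
open CategoryTheory CategoryTheory.Limits
universe v₇ u₇ v₆ u₆ v₅ u₅ v₄ u₄ v₃ u₃ v₂ u₂ v u

namespace Groth.Agent.H64

open Groth.Agent.H32

variable {C : Type u} [Category.{v} C]

section paste2

variable {𝒳 : BasedCategory.{v₂, u₂} C} {𝒴 : BasedCategory.{v₃, u₃} C}
  {𝒵 : BasedCategory.{v₄, u₄} C} {𝒲 : BasedCategory.{v₅, u₅} C}
variable (f : 𝒳 ⥤ᵇ 𝒴) (g : 𝒴 ⥤ᵇ 𝒵) (G : 𝒲 ⥤ᵇ 𝒵)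

/-- `𝒲 ×_𝒵 𝒳 ⟶ 𝒲 ×_𝒵 𝒴` -/
def fpPaste₂Fst : FibCat.fp G (BasedFunctor.comp f g) ⥤ᵇ FibCat.fp G g :=
  FibCat.fpLift (F := G) (G := g) (FibCat.fpFst G (BasedFunctor.comp f g))
    (BasedFunctor.comp (FibCat.fpSnd G (BasedFunctor.comp f g)) f)
    (FibCat.fpIso G (BasedFunctor.comp f g))

/-- the pasting functor `𝒲 ×_𝒵 𝒳 ⟶ (𝒲 ×_𝒵 𝒴) ×_𝒴 𝒳` -/
def fpPaste₂ : FibCat.fp G (BasedFunctor.comp f g) ⥤ᵇ FibCat.fp (FibCat.fpSnd G g) f :=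
  FibCat.fpLift (F := FibCat.fpSnd G g) (G := f) (fpPaste₂Fst f g G)
    (FibCat.fpSnd G (BasedFunctor.comp f g)) (Iso.refl _)

theorem fpPaste₂_faithful : (fpPaste₂ f g G).toFunctor.Faithful := by
  refine ⟨fun {ξ ξ'} m m' h => ?_⟩
  apply fp_hom_ext
  · exact congrArg (fun t => t.hom.fst.hom.fst) h
  · exact congrArg (fun t => t.hom.snd) h

theorem fpPaste₂_full : (fpPaste₂ f g G).toFunctor.Full := by
  refine ⟨fun {ξ ξ'} n => ?_⟩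
  let n₁ : ξ.obj.fst ⟶ ξ'.obj.fst := n.hom.fst.hom.fst
  let n₂ : ξ.obj.snd ⟶ ξ'.obj.snd := n.hom.snd
  let n₃ : f.obj ξ.obj.snd ⟶ f.obj ξ'.obj.snd := n.hom.fst.hom.snd
  have hw : n₃ ≫ 𝟙 _ = 𝟙 _ ≫ f.map n₂ := n.hom.w
  have hw' : G.map n₁ ≫ ξ'.obj.iso.hom = ξ.obj.iso.hom ≫ g.map n₃ := n.hom.fst.hom.w
  have h3 : n₃ = f.map n₂ := by
    rw [Category.comp_id, Category.id_comp] at hw
    exact hw
  have hw'' : G.map n₁ ≫ ξ'.obj.iso.hom = ξ.obj.iso.hom ≫ (BasedFunctor.comp f g).map n₂ := by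
    show _ = _ ≫ g.map (f.map n₂)
    rw [← h3]
    exact hw'
  refine ⟨fpHomMk G (BasedFunctor.comp f g) n₁ n₂ hw'', ?_⟩
  apply fp_hom_ext
  · apply fp_hom_ext
    · rfl
    · exact h3.symm
  · rfl

theorem fpPaste₂_essSurj (η : (FibCat.fp (FibCat.fpSnd G g) f).obj) :
    ∃ (ξ : (FibCat.fp G (BasedFunctor.comp f g)).obj) (e : (fpPaste₂ f g G).obj ξ ≅ η),
      (FibCat.fp (FibCat.fpSnd G g) f).p.IsHomLift
        (𝟙 ((FibCat.fp (FibCat.fpSnd G g) f).p.obj η)) e.hom := by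
  -- η = (t = (u, y, φ), x, ψ : y ≅ f x)
  let t : (FibCat.fp G g).obj := η.obj.fst
  let x : 𝒳.obj := η.obj.snd
  let ψ : t.obj.snd ≅ f.obj x := η.obj.iso
  let U : C := 𝒲.p.obj t.obj.fst
  have hψ : 𝒴.p.IsHomLift (𝟙 U) ψ.hom := fp_iso_isHomLift (FibCat.fpSnd G g) f η
  have hgψ : 𝒵.p.IsHomLift (𝟙 U) (g.map ψ.hom) := (BasedFunctor.isHomLift_iff g _ _).mpr hψ
  have hφ : 𝒵.p.IsHomLift (𝟙 U) t.obj.iso.hom := fp_iso_isHomLift G g t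
  let χ : G.obj t.obj.fst ≅ (BasedFunctor.comp f g).obj x := t.obj.iso ≪≫ g.toFunctor.mapIso ψ
  have hχ : 𝒵.p.IsHomLift (𝟙 U) χ.hom := lift_id_comp_id 𝒵.p hφ hgψ
  let ξ : (FibCat.fp G (BasedFunctor.comp f g)).obj := ⟨⟨t.obj.fst, x, χ⟩, hχ⟩
  let e₁ : ((fpPaste₂ f g G).obj ξ).obj.fst ≅ t :=
    fpIsoMk G g (z := ((fpPaste₂ f g G).obj ξ).obj.fst) (z' := t) (Iso.refl _) ψ.symm (by
      show G.map (𝟙 _) ≫ t.obj.iso.hom = (t.obj.iso.hom ≫ g.map ψ.hom) ≫ g.map ψ.inv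
      rw [G.map_id, Category.id_comp, Category.assoc, ← g.map_comp, ψ.hom_inv_id, g.map_id,
        Category.comp_id])
  let e : (fpPaste₂ f g G).obj ξ ≅ η :=
    fpIsoMk (FibCat.fpSnd G g) f (z := (fpPaste₂ f g G).obj ξ) (z' := η) e₁ (Iso.refl x) (by
      show ψ.inv ≫ ψ.hom = 𝟙 _ ≫ f.map (𝟙 x)
      rw [ψ.inv_hom_id, f.map_id, Category.comp_id])
  refine ⟨ξ, e, ?_⟩
  have h1 : 𝒲.p.IsHomLift (𝟙 U) e.hom.hom.fst.hom.fst := IsHomLift.id rfl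
  have h2 : (FibCat.fp G g).p.IsHomLift (𝟙 U) e.hom.hom.fst := fp_isHomLift_of_fst G g _ (𝟙 U)
  exact fp_isHomLift_of_fst (FibCat.fpSnd G g) f e.hom (𝟙 U)

/-- pasting of 2-fibre products in the second variable:
`𝒲 ×_𝒵 𝒳 ≃ (𝒲 ×_𝒵 𝒴) ×_𝒴 𝒳` -/
theorem isEquivOver_fpPaste₂ : FibCat.IsEquivOver (fpPaste₂ f g G) := by
  have := fpPaste₂_full f g G
  have := fpPaste₂_faithful f g G
  exact isEquivOver_of_fullyFaithful_of_fiberwise_essSurj _ (fun η => fpPaste₂_essSurj f g G η)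

end paste2

end Groth.Agent.H64
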