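import Groth.Agent.H64.Stk.EquivOver

set_option autoImplicit false
open CategoryTheory CategoryTheory.Limits Opposite
universe w v₃ u₃ v₂ u₂ v u

namespace Groth.Agent.H64

open Groth.Agent.H32

variable {C : Type u} [Category.{v} C]

/-- the category of a presheaf is fibred in setoids (even in sets) -/
theorem isFibSetoid_ofPsh (P : Cᵒᵖ ⥤ Type w) : FibCat.IsFibSetoid (Stk.ofPsh P).p := by
  refine ⟨Stk.isFibGrpd_ofPsh P, fun U => ?_⟩
  intro X Y
  refine ⟨fun φ ψ => ?_⟩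
  apply Functor.Fiber.hom_ext
  apply Stk.EltObj.hom_ext
  have hφ : (Stk.ofPsh P).p.IsHomLift (𝟙 U) φ.1 := φ.2
  have hψ : (Stk.ofPsh P).p.IsHomLift (𝟙 U) ψ.1 := ψ.2
  have h1 := IsHomLift.fac' (Stk.ofPsh P).p (𝟙 U) φ.1
  have h2 := IsHomLift.fac' (Stk.ofPsh P).p (𝟙 U) ψ.1
  exact h1.trans h2.symm

end Groth.Agent.H64
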