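import Groth.Agent.H64.Stk.FpStack

set_option autoImplicit false
open CategoryTheory CategoryTheory.Limits
universe v₆ u₆ v₅ u₅ v₄ u₄ v₃ u₃ v₂ u₂ v u

namespace Groth.Agent.H64

open Groth.Agent.H32

variable {C : Type u} [Category.{v} C]

section transfer

variable {𝒳 : BasedCategory.{v₂, u₂} C} {𝒴 : BasedCategory.{v₃, u₃} C}

theorem isFibGrpd_of_equivOverData {F : 𝒳 ⥤ᵇ 𝒴} (d : EquivOverData F)
    (h𝒳 : FibCat.IsFibGrpd 𝒳.p) : FibCat.IsFibGrpd 𝒴.p := by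
  refine ⟨?_, ?_⟩
  · intro y V f
    have hy : 𝒳.p.obj (d.inv.obj y) = 𝒴.p.obj y := d.inv.w_obj y
    obtain ⟨x, φ, hφ⟩ := h𝒳.exists_lift (x := d.inv.obj y) (f ≫ eqToHom hy.symm)
    have hφ' : 𝒳.p.IsHomLift f φ := (IsHomLift.lift_comp_eqToHom_iff 𝒳.p f φ hy.symm).mp hφ
    have hε : 𝒴.p.IsHomLift (𝟙 (𝒴.p.obj y)) (d.counitIso.hom.app y) := d.counit_isHomLift y
    have hFφ : 𝒴.p.IsHomLift f (F.map φ) := inferInstance
    refine ⟨F.obj x, F.map φ ≫ d.counitIso.hom.app y, ?_⟩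
    have := IsHomLift.comp 𝒴.p f (𝟙 (𝒴.p.obj y)) (F.map φ) (d.counitIso.hom.app y)
    simpa using this
  · intro y' y ψ
    -- ψ = ε⁻¹ ≫ F G ψ ≫ ε
    have hnat : d.counitIso.inv.app y' ≫ F.map (d.inv.map ψ) ≫ d.counitIso.hom.app y = ψ := by
      have := d.counitIso.hom.naturality ψ
      simp only [Functor.comp_map, Functor.id_map] at this
      rw [this, ← Category.assoc, Iso.inv_hom_id_app]
      exact Category.id_comp _
    have hGψ : 𝒳.p.IsHomLift (𝒴.p.map ψ) (d.inv.map ψ) := inferInstance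
    have hs : 𝒳.p.IsStronglyCartesian (𝒴.p.map ψ) (d.inv.map ψ) :=
      isStronglyCartesian_of_fibGrpd 𝒳.p h𝒳 _ _
    have h1 : 𝒴.p.IsStronglyCartesian (𝒴.p.map ψ) (F.map (d.inv.map ψ)) :=
      map_isStronglyCartesian_of_equivOverData d _ _
    have hε : 𝒴.p.IsHomLift (𝟙 (𝒴.p.obj y)) (d.counitIso.app y).hom := d.counit_isHomLift y
    have h2 : 𝒴.p.IsStronglyCartesian (𝟙 (𝒴.p.obj y)) (d.counitIso.app y).hom := inferInstance
    have hε' : 𝒴.p.IsHomLift (𝟙 (𝒴.p.obj y')) (d.counitIso.app y').symm.hom :=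
      d.counit_inv_isHomLift y'
    have h2' : 𝒴.p.IsStronglyCartesian (𝟙 (𝒴.p.obj y')) (d.counitIso.app y').symm.hom :=
      inferInstance
    have h3 : 𝒴.p.IsStronglyCartesian (𝒴.p.map ψ ≫ 𝟙 (𝒴.p.obj y))
        (F.map (d.inv.map ψ) ≫ (d.counitIso.app y).hom) := inferInstance
    have h4 : 𝒴.p.IsStronglyCartesian (𝟙 (𝒴.p.obj y') ≫ 𝒴.p.map ψ ≫ 𝟙 (𝒴.p.obj y))
        ((d.counitIso.app y').symm.hom ≫ F.map (d.inv.map ψ) ≫ (d.counitIso.app y).hom) :=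
      inferInstance
    rw [Category.comp_id, Category.id_comp] at h4
    have e : (d.counitIso.app y').symm.hom ≫ F.map (d.inv.map ψ) ≫ (d.counitIso.app y).hom = ψ :=
      hnat
    rw [e] at h4
    exact h4

theorem isFibGrpd_iff_of_isEquivOver {F : 𝒳 ⥤ᵇ 𝒴} (hF : FibCat.IsEquivOver F) :
    FibCat.IsFibGrpd 𝒳.p ↔ FibCat.IsFibGrpd 𝒴.p := by
  obtain ⟨d⟩ := IsEquivOver.nonempty_data hF
  exact ⟨isFibGrpd_of_equivOverData d, isFibGrpd_of_equivOverData d.symm⟩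

theorem isFibSetoid_of_equivOverData {F : 𝒳 ⥤ᵇ 𝒴} (d : EquivOverData F)
    (h𝒳 : FibCat.IsFibSetoid 𝒳.p) : FibCat.IsFibSetoid 𝒴.p := by
  refine ⟨isFibGrpd_of_equivOverData d h𝒳.1, fun U => ?_⟩
  intro X Y
  refine ⟨fun φ ψ => ?_⟩
  have : d.inv.toFunctor.IsEquivalence := d.symm.isEquivalence
  apply Functor.Fiber.hom_ext
  apply d.inv.toFunctor.map_injective
  have hφ : 𝒴.p.IsHomLift (𝟙 U) φ.1 := φ.2
  have hψ : 𝒴.p.IsHomLift (𝟙 U) ψ.1 := ψ.2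
  have h1 : 𝒳.p.IsHomLift (𝟙 U) (d.inv.map φ.1) := inferInstance
  have h2 : 𝒳.p.IsHomLift (𝟙 U) (d.inv.map ψ.1) := inferInstance
  let a : 𝒳.p.Fiber U := ⟨d.inv.obj X.1, (d.inv.w_obj X.1).trans X.2⟩
  let b : 𝒳.p.Fiber U := ⟨d.inv.obj Y.1, (d.inv.w_obj Y.1).trans Y.2⟩
  let φ' : a ⟶ b := ⟨d.inv.map φ.1, h1⟩
  let ψ' : a ⟶ b := ⟨d.inv.map ψ.1, h2⟩
  have : φ' = ψ' := (h𝒳.2 U a b).elim φ' ψ'
  exact congrArg Subtype.val this

theorem isFibSetoid_iff_of_isEquivOver {F : 𝒳 ⥤ᵇ 𝒴} (hF : FibCat.IsEquivOver F) :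
    FibCat.IsFibSetoid 𝒳.p ↔ FibCat.IsFibSetoid 𝒴.p := by
  obtain ⟨d⟩ := IsEquivOver.nonempty_data hF
  exact ⟨isFibSetoid_of_equivOverData d, isFibSetoid_of_equivOverData d.symm⟩

end transfer

section aux

variable {D : Type u₂} [Category.{v₂} D]

theorem nat_conj_aux {X X' Y Y' : D} (εX : Y ≅ X) (εX' : Y' ≅ X') (g : X ⟶ X') (Fg : Y ⟶ Y')
    (nat : Fg ≫ εX'.hom = εX.hom ≫ g) : εX.inv ≫ Fg ≫ εX'.hom = g := by
  rw [nat, Iso.inv_hom_id_assoc]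

theorem iso_conj_aux {X Y Z : D} (f : X ⟶ Y) (f' : Y ⟶ X) (ε : Y ≅ Z) (hf : f ≫ f' = 𝟙 X) :
    (f ≫ ε.hom) ≫ ε.inv ≫ f' = 𝟙 X := by
  rw [Category.assoc, Iso.hom_inv_id_assoc, hf]

theorem iso_conj_aux' {X Y Z : D} (f : X ⟶ Y) (f' : Y ⟶ X) (ε : Y ≅ Z) (hf : f' ≫ f = 𝟙 Y) :
    (ε.inv ≫ f') ≫ f ≫ ε.hom = 𝟙 Z := by
  rw [Category.assoc, reassoc_of% hf, Iso.inv_hom_id]

end aux

section restr

variable {𝒳 : BasedCategory.{v₂, u₂} C} {𝒴 : BasedCategory.{v₃, u₃} C}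
  {𝒜 : BasedCategory.{v₅, u₅} C} {ℬ : BasedCategory.{v₆, u₆} C} (ι : 𝒜 ⥤ᵇ ℬ)
  {F : 𝒳 ⥤ᵇ 𝒴} (d : EquivOverData F)

include d

theorem restr_faithful_of_equivOverData (h : (Stk.restr ι 𝒳).Faithful) :
    (Stk.restr ι 𝒴).Faithful := by
  rw [restr_faithful_iff] at h ⊢
  intro H H' α β hαβ
  have h1 := h _ _ (BasedCategory.whiskerRight α d.inv) (BasedCategory.whiskerRight β d.inv)
    (fun a => by rw [bapp_whiskerRight, bapp_whiskerRight, hαβ a])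
  have : d.inv.toFunctor.IsEquivalence := d.symm.isEquivalence
  apply bext
  intro b
  apply d.inv.toFunctor.map_injective
  exact congrArg (fun γ => bapp γ b) h1

theorem restr_full_of_equivOverData (h : (Stk.restr ι 𝒳).Full) :
    (Stk.restr ι 𝒴).Full := by
  rw [restr_full_iff] at h ⊢
  intro H H' γ
  obtain ⟨a, ha⟩ := h (BasedFunctor.comp H d.inv) (BasedFunctor.comp H' d.inv)
    (BasedCategory.whiskerRight γ d.inv)
  refine ⟨BasedCategory.whiskerLeft H d.counit.inv ≫ BasedCategory.whiskerRight a F ≫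
    BasedCategory.whiskerLeft H' d.counit.hom, ?_⟩
  intro t
  change d.counitIso.inv.app (H.obj (ι.obj t)) ≫ F.map (bapp a (ι.obj t)) ≫
    d.counitIso.hom.app (H'.obj (ι.obj t)) = bapp γ t
  have ha' : bapp a (ι.obj t) = d.inv.map (bapp γ t) := ha t
  rw [ha']
  exact nat_conj_aux (d.counitIso.app (H.obj (ι.obj t))) (d.counitIso.app (H'.obj (ι.obj t)))
    (bapp γ t) (F.map (d.inv.map (bapp γ t))) (d.counitIso.hom.naturality (bapp γ t))

theorem restr_essSurj_of_equivOverData (h : (Stk.restr ι 𝒳).EssSurj) :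
    (Stk.restr ι 𝒴).EssSurj := by
  rw [restr_essSurj_iff] at h ⊢
  intro K
  obtain ⟨A, ⟨e⟩⟩ := h (BasedFunctor.comp K d.inv)
  refine ⟨BasedFunctor.comp A F, ⟨?_⟩⟩
  refine ⟨BasedCategory.whiskerRight e.hom F ≫ BasedCategory.whiskerLeft K d.counit.hom,
    BasedCategory.whiskerLeft K d.counit.inv ≫ BasedCategory.whiskerRight e.inv F, ?_, ?_⟩
  · apply bext
    intro t
    change (F.map (bapp e.hom t) ≫ d.counitIso.hom.app (K.obj t)) ≫
      d.counitIso.inv.app (K.obj t) ≫ F.map (bapp e.inv t) = 𝟙 _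
    have h3 : F.map (bapp e.hom t) ≫ F.map (bapp e.inv t) = 𝟙 _ := by
      rw [← F.map_comp, bapp_iso_hom_inv, F.map_id]
    exact iso_conj_aux (F.map (bapp e.hom t)) (F.map (bapp e.inv t)) (d.counitIso.app (K.obj t)) h3
  · apply bext
    intro t
    change (d.counitIso.inv.app (K.obj t) ≫ F.map (bapp e.inv t)) ≫
      F.map (bapp e.hom t) ≫ d.counitIso.hom.app (K.obj t) = 𝟙 _
    have h3 : F.map (bapp e.inv t) ≫ F.map (bapp e.hom t) = 𝟙 _ := by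
      rw [← F.map_comp, bapp_iso_inv_hom, F.map_id]
    exact iso_conj_aux' (F.map (bapp e.hom t)) (F.map (bapp e.inv t)) (d.counitIso.app (K.obj t)) h3

theorem restr_isEquivalence_of_equivOverData (h : (Stk.restr ι 𝒳).IsEquivalence) :
    (Stk.restr ι 𝒴).IsEquivalence :=
  { faithful := restr_faithful_of_equivOverData ι d h.faithful
    full := restr_full_of_equivOverData ι d h.full
    essSurj := restr_essSurj_of_equivOverData ι d h.essSurj }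

end restr

section stack

variable {𝒳 : BasedCategory.{v₂, u₂} C} {𝒴 : BasedCategory.{v₃, u₃} C}

theorem isStack_of_equivOverData (J : GrothendieckTopology C) {F : 𝒳 ⥤ᵇ 𝒴} (d : EquivOverData F)
    (h : Stk.IsStack J 𝒳) : Stk.IsStack J 𝒴 :=
  ⟨isFibGrpd_of_equivOverData d h.1, fun _ R hR =>
    restr_isEquivalence_of_equivOverData (Stk.sieveIncl R) d (h.2 R hR)⟩

theorem isPrestack_of_equivOverData (J : GrothendieckTopology C) {F : 𝒳 ⥤ᵇ 𝒴}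
    (d : EquivOverData F) (h : Stk.IsPrestack J 𝒳) : Stk.IsPrestack J 𝒴 :=
  ⟨isFibGrpd_of_equivOverData d h.1, fun _ R hR =>
    ⟨restr_full_of_equivOverData (Stk.sieveIncl R) d (h.2 R hR).1,
      restr_faithful_of_equivOverData (Stk.sieveIncl R) d (h.2 R hR).2⟩⟩

theorem isStack_iff_of_isEquivOver (J : GrothendieckTopology C) {F : 𝒳 ⥤ᵇ 𝒴}
    (hF : FibCat.IsEquivOver F) : Stk.IsStack J 𝒳 ↔ Stk.IsStack J 𝒴 := by
  obtain ⟨d⟩ := IsEquivOver.nonempty_data hF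
  exact ⟨isStack_of_equivOverData J d, isStack_of_equivOverData J d.symm⟩

theorem isPrestack_iff_of_isEquivOver (J : GrothendieckTopology C) {F : 𝒳 ⥤ᵇ 𝒴}
    (hF : FibCat.IsEquivOver F) : Stk.IsPrestack J 𝒳 ↔ Stk.IsPrestack J 𝒴 := by
  obtain ⟨d⟩ := IsEquivOver.nonempty_data hF
  exact ⟨isPrestack_of_equivOverData J d, isPrestack_of_equivOverData J d.symm⟩

end stack

end Groth.Agent.H64
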