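import Groth.Agent.H64.Stk.OfPsh
import Groth.Agent.H64.Stk.Lift
import Mathlib.CategoryTheory.Sites.SheafOfTypes

set_option autoImplicit false
open CategoryTheory CategoryTheory.Limits Opposite
universe w v₃ u₃ v₂ u₂ v u

namespace Groth.Agent.H64

open Groth.Agent.H32

variable {C : Type u} [Category.{v} C] (P : Cᵒᵖ ⥤ Type w)

section elt

/-- the section of an object of `ofPsh P` transported to a given base -/
def secAt (x : Stk.EltObj P) {T : C} (h : x.base = T) : P.obj (op T) :=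
  P.map (eqToHom h.symm).op x.sec

theorem secAt_rfl (x : Stk.EltObj P) : secAt P x rfl = x.sec := by
  simp [secAt]

/-- naturality of `secAt` along a morphism lying over `f` -/
theorem secAt_of_hom {x y : Stk.EltObj P} (φ : x ⟶ y) {T T' : C} (f : T ⟶ T')
    (hφ : (Stk.ofPsh P).p.IsHomLift f φ) (hx : x.base = T) (hy : y.base = T') :
    P.map f.op (secAt P y hy) = secAt P x hx := by
  obtain ⟨b, s⟩ := x
  obtain ⟨b', s'⟩ := y
  dsimp only at hx hy
  subst hx hy
  have h1 := IsHomLift.fac' (Stk.ofPsh P).p f φ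
  have h1' : φ.hom = 𝟙 _ ≫ f ≫ 𝟙 _ := h1
  have h2 : φ.hom = f := by rw [h1', Category.id_comp, Category.comp_id]
  rw [secAt_rfl, secAt_rfl, ← h2]
  exact φ.map_sec

/-- existence of a morphism over the identity between objects with the same transported section -/
theorem exists_hom_of_secAt_eq {x y : Stk.EltObj P} {T : C} (hx : x.base = T) (hy : y.base = T)
    (h : secAt P x hx = secAt P y hy) :
    ∃ φ : x ⟶ y, (Stk.ofPsh P).p.IsHomLift (𝟙 T) φ := by
  obtain ⟨b, s⟩ := x
  obtain ⟨b', s'⟩ := y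
  dsimp only at hx hy
  subst hx hy
  rw [secAt_rfl, secAt_rfl] at h
  dsimp only at h
  subst h
  exact ⟨𝟙 _, IsHomLift.id rfl⟩

/-- morphisms of `ofPsh P` are determined by the base morphism they lie over -/
theorem eltHom_ext {x y : Stk.EltObj P} {T T' : C} (f : T ⟶ T') (φ φ' : x ⟶ y)
    (hφ : (Stk.ofPsh P).p.IsHomLift f φ) (hφ' : (Stk.ofPsh P).p.IsHomLift f φ') : φ = φ' := by
  apply Stk.EltObj.hom_ext
  have h1 := IsHomLift.fac' (Stk.ofPsh P).p f φ
  have h2 := IsHomLift.fac' (Stk.ofPsh P).p f φ'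
  exact h1.trans h2.symm

end elt

section based

variable {P} {𝒜 : BasedCategory.{v₂, u₂} C}

/-- the section over `a` defined by a based functor into `ofPsh P` -/
def bsec (G : 𝒜 ⥤ᵇ Stk.ofPsh P) (a : 𝒜.obj) : P.obj (op (𝒜.p.obj a)) :=
  secAt P (G.obj a) (G.w_obj a)

theorem bsec_naturality (G : 𝒜 ⥤ᵇ Stk.ofPsh P) {a b : 𝒜.obj} (m : a ⟶ b) :
    P.map (𝒜.p.map m).op (bsec G b) = bsec G a :=
  secAt_of_hom P (G.map m) (𝒜.p.map m) (BasedFunctor.preserves_isHomLift G _ m) _ _

theorem bsec_eq_of_hom {G H : 𝒜 ⥤ᵇ Stk.ofPsh P} (α : G ⟶ H) (a : 𝒜.obj) : bsec G a = bsec H a := by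
  have h := secAt_of_hom P (bapp α a) (𝟙 (𝒜.p.obj a)) (bapp_isHomLift' α a rfl) (G.w_obj a)
    (H.w_obj a)
  show secAt P (G.obj a) _ = secAt P (H.obj a) _
  rw [← h]
  simp

theorem bhom_subsingleton (G H : 𝒜 ⥤ᵇ Stk.ofPsh P) : Subsingleton (G ⟶ H) := by
  refine ⟨fun α β => ?_⟩
  apply bext
  intro a
  exact eltHom_ext P (𝟙 (𝒜.p.obj a)) _ _ (bapp_isHomLift' α a rfl) (bapp_isHomLift' β a rfl)

theorem exists_bhom_of_bsec_eq {G H : 𝒜 ⥤ᵇ Stk.ofPsh P} (h : ∀ a, bsec G a = bsec H a) :
    Nonempty (G ⟶ H) := by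
  have hex : ∀ a, ∃ φ : G.obj a ⟶ H.obj a, (Stk.ofPsh P).p.IsHomLift (𝟙 (𝒜.p.obj a)) φ :=
    fun a => exists_hom_of_secAt_eq P (G.w_obj a) (H.w_obj a) (h a)
  choose app happ using hex
  refine ⟨mkB app (fun {a b} m => ?_) happ⟩
  have hG : (Stk.ofPsh P).p.IsHomLift (𝒜.p.map m) (G.map m) :=
    BasedFunctor.preserves_isHomLift G _ m
  have hH : (Stk.ofPsh P).p.IsHomLift (𝒜.p.map m) (H.map m) :=
    BasedFunctor.preserves_isHomLift H _ m
  exact eltHom_ext P (𝒜.p.map m) _ _ (lift_comp_id_right (Stk.ofPsh P).p hG (happ b))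
    (lift_comp_id_left (Stk.ofPsh P).p (happ a) hH)

theorem nonempty_biso_of_bsec_eq {G H : 𝒜 ⥤ᵇ Stk.ofPsh P} (h : ∀ a, bsec G a = bsec H a) :
    Nonempty (G ≅ H) := by
  obtain ⟨α⟩ := exists_bhom_of_bsec_eq h
  obtain ⟨β⟩ := exists_bhom_of_bsec_eq (fun a => (h a).symm)
  have := bhom_subsingleton G G
  have := bhom_subsingleton H H
  exact ⟨⟨α, β, Subsingleton.elim _ _, Subsingleton.elim _ _⟩⟩

end based

section slice

variable {P} {U : C}

/-- the based functor `C/U ⥤ᵇ ofPsh P` of a section over `U` -/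
def ofSection (x : P.obj (op U)) : FibCat.overCat U ⥤ᵇ Stk.ofPsh P where
  toFunctor :=
    { obj := fun a => ⟨a.left, P.map a.hom.op x⟩
      map := fun {a b} m => ⟨m.left, by
        show P.map m.left.op (P.map b.hom.op x) = P.map a.hom.op x
        rw [← Over.w m, op_comp, Functor.map_comp]
        rfl⟩
      map_id := fun a => by apply Stk.EltObj.hom_ext; rfl
      map_comp := fun m m' => by apply Stk.EltObj.hom_ext; rfl }
  w := rfl

theorem bsec_ofSection (x : P.obj (op U)) (a : Over U) :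
    bsec (ofSection x) a = P.map a.hom.op x :=
  secAt_rfl P _

/-- the section over `U` of a based functor out of the slice -/
def elOf (G : FibCat.overCat U ⥤ᵇ Stk.ofPsh P) : P.obj (op U) := bsec G (Over.mk (𝟙 U))

theorem bsec_eq_map_elOf (G : FibCat.overCat U ⥤ᵇ Stk.ofPsh P) (a : Over U) :
    bsec G a = P.map a.hom.op (elOf G) := by
  have h := bsec_naturality G (Over.homMk a.hom (by simp) : a ⟶ Over.mk (𝟙 U))
  exact h.symm

theorem elOf_ofSection (x : P.obj (op U)) : elOf (ofSection x) = x := by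
  show bsec (ofSection x) (Over.mk (𝟙 U)) = x
  rw [bsec_ofSection]
  show P.map (𝟙 U).op x = x
  rw [op_id, P.map_id]
  rfl

end slice

section sieve

variable {P} {U : C} (R : Sieve U)

/-- the family of elements on `R` of a based functor out of the sieve -/
def famOf (K : Stk.sieveCat R ⥤ᵇ Stk.ofPsh P) : Presieve.FamilyOfElements P R.arrows :=
  fun _ f hf => bsec K ⟨Over.mk f, hf⟩

theorem famOf_sieveCompatible (K : Stk.sieveCat R ⥤ᵇ Stk.ofPsh P) :
    (famOf R K).SieveCompatible := by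
  intro V W f g hf
  let a : (Stk.sieveCat R).obj := ⟨Over.mk (g ≫ f), R.downward_closed hf g⟩
  let b : (Stk.sieveCat R).obj := ⟨Over.mk f, hf⟩
  let m : a ⟶ b := ObjectProperty.homMk (Over.homMk g rfl)
  have h := bsec_naturality K m
  exact h.symm

/-- the based functor on the sieve defined by a compatible family -/
def ofFamily (x : Presieve.FamilyOfElements P R.arrows) (hx : x.SieveCompatible) :
    Stk.sieveCat R ⥤ᵇ Stk.ofPsh P where
  toFunctor :=
    { obj := fun a => ⟨a.obj.left, x a.obj.hom a.property⟩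
      map := fun {a b} m => ⟨m.hom.left, by
        show P.map m.hom.left.op (x b.obj.hom b.property) = x a.obj.hom a.property
        rw [← hx b.obj.hom m.hom.left b.property]
        have e : m.hom.left ≫ b.obj.hom = a.obj.hom := Over.w m.hom
        congr 1⟩
      map_id := fun a => by apply Stk.EltObj.hom_ext; rfl
      map_comp := fun m m' => by apply Stk.EltObj.hom_ext; rfl }
  w := rfl

theorem bsec_ofFamily (x : Presieve.FamilyOfElements P R.arrows) (hx : x.SieveCompatible)
    (a : (Stk.sieveCat R).obj) : bsec (ofFamily R x hx) a = x a.obj.hom a.property :=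
  secAt_rfl P _

theorem bsec_sieveIncl_comp (G : FibCat.overCat U ⥤ᵇ Stk.ofPsh P) (a : (Stk.sieveCat R).obj) :
    bsec (BasedFunctor.comp (Stk.sieveIncl R) G) a = bsec G a.obj := rfl

theorem isStackFor_ofPsh_of_isSheafFor (hsh : Presieve.IsSheafFor P R.arrows) :
    Stk.IsStackFor R (Stk.ofPsh P) := by
  have hsep : Presieve.IsSeparatedFor P R.arrows := hsh.isSeparatedFor
  have hfaith : (Stk.restr (Stk.sieveIncl R) (Stk.ofPsh P)).Faithful := by
    rw [restr_faithful_iff]
    intro H H' α β _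
    exact (bhom_subsingleton H H').elim α β
  have hfull : (Stk.restr (Stk.sieveIncl R) (Stk.ofPsh P)).Full := by
    rw [restr_full_iff]
    intro H H' γ
    have hel : elOf H = elOf H' := by
      apply hsep.ext
      intro Y f hf
      have h1 : bsec H (Over.mk f) = bsec H' (Over.mk f) := bsec_eq_of_hom γ ⟨Over.mk f, hf⟩
      exact (bsec_eq_map_elOf H (Over.mk f)).symm.trans
        (h1.trans (bsec_eq_map_elOf H' (Over.mk f)))
    obtain ⟨α⟩ := exists_bhom_of_bsec_eq (G := H) (H := H') (fun a =>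
      (bsec_eq_map_elOf H a).trans
        ((congrArg (fun t => P.map a.hom.op t) hel).trans (bsec_eq_map_elOf H' a).symm))
    refine ⟨α, fun a => ?_⟩
    exact eltHom_ext P (𝟙 ((Stk.sieveCat R).p.obj a)) _ _
      (bapp_isHomLift' α ((Stk.sieveIncl R).obj a) rfl) (bapp_isHomLift' γ a rfl)
  have hess : (Stk.restr (Stk.sieveIncl R) (Stk.ofPsh P)).EssSurj := by
    rw [restr_essSurj_iff]
    intro K
    have hx : (famOf R K).Compatible :=
      (Presieve.compatible_iff_sieveCompatible _).mpr (famOf_sieveCompatible R K)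
    refine ⟨ofSection (hsh.amalgamate (famOf R K) hx), ?_⟩
    apply nonempty_biso_of_bsec_eq
    intro a
    have h1 : bsec (BasedFunctor.comp (Stk.sieveIncl R)
        (ofSection (hsh.amalgamate (famOf R K) hx))) a =
        P.map a.obj.hom.op (hsh.amalgamate (famOf R K) hx) :=
      bsec_ofSection (hsh.amalgamate (famOf R K) hx) a.obj
    exact h1.trans (hsh.valid_glue hx a.obj.hom a.property)
  exact { faithful := hfaith, full := hfull, essSurj := hess }

theorem isSheafFor_of_isStackFor_ofPsh (h : Stk.IsStackFor R (Stk.ofPsh P)) :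
    Presieve.IsSheafFor P R.arrows := by
  have hfull : (Stk.restr (Stk.sieveIncl R) (Stk.ofPsh P)).Full := h.full
  have hess : (Stk.restr (Stk.sieveIncl R) (Stk.ofPsh P)).EssSurj := h.essSurj
  rw [restr_full_iff] at hfull
  rw [restr_essSurj_iff] at hess
  intro x hx
  have hx' : x.SieveCompatible := (Presieve.compatible_iff_sieveCompatible _).mp hx
  obtain ⟨G, ⟨e⟩⟩ := hess (ofFamily R x hx')
  have hG : ∀ ⦃Y : C⦄ (f : Y ⟶ U) (hf : R f), P.map f.op (elOf G) = x f hf := by
    intro Y f hf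
    have h1 : bsec G (Over.mk f) = bsec (ofFamily R x hx') ⟨Over.mk f, hf⟩ :=
      bsec_eq_of_hom e.hom ⟨Over.mk f, hf⟩
    exact (bsec_eq_map_elOf G (Over.mk f)).symm.trans
      (h1.trans (bsec_ofFamily R x hx' ⟨Over.mk f, hf⟩))
  refine ⟨elOf G, fun Y f hf => hG f hf, ?_⟩
  intro t' ht'
  have hsec : ∀ a, bsec (BasedFunctor.comp (Stk.sieveIncl R) (ofSection t')) a =
      bsec (BasedFunctor.comp (Stk.sieveIncl R) G) a := by
    intro a
    have h1 : bsec (BasedFunctor.comp (Stk.sieveIncl R) (ofSection t')) a =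
        P.map a.obj.hom.op t' := bsec_ofSection t' a.obj
    have h2 : bsec (BasedFunctor.comp (Stk.sieveIncl R) G) a = P.map a.obj.hom.op (elOf G) :=
      bsec_eq_map_elOf G a.obj
    exact h1.trans ((ht' a.obj.hom a.property).trans
      ((hG a.obj.hom a.property).symm.trans h2.symm))
  obtain ⟨γ⟩ := exists_bhom_of_bsec_eq hsec
  obtain ⟨α, -⟩ := hfull _ _ γ
  have h2 := bsec_eq_of_hom α (Over.mk (𝟙 U))
  have h3 : elOf (ofSection t') = elOf G := h2
  rw [elOf_ofSection] at h3
  exact h3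

end sieve

theorem isStack_ofPsh_iff_isSheaf (J : GrothendieckTopology C) (P : Cᵒᵖ ⥤ Type w) :
    Stk.IsStack J (Stk.ofPsh P) ↔ Presieve.IsSheaf J P := by
  constructor
  · intro h U R hR
    exact isSheafFor_of_isStackFor_ofPsh R (h.2 R hR)
  · intro h
    exact ⟨Stk.isFibGrpd_ofPsh P, fun U R hR => isStackFor_ofPsh_of_isSheafFor R (h R hR)⟩

end Groth.Agent.H64
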