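import Groth.Agent.H64.Stk.Glue
import Groth.Agent.H64.Stk.OfPsh

set_option autoImplicit false
open CategoryTheory CategoryTheory.Limits
universe v₆ u₆ v₅ u₅ v₄ u₄ v₃ u₃ v₂ u₂ v u

namespace Groth.Agent.H64

open Groth.Agent.H32

variable {C : Type u} [Category.{v} C]

section

variable {𝒳 : BasedCategory.{v₂, u₂} C} {𝒴 : BasedCategory.{v₃, u₃} C} (f : 𝒳 ⥤ᵇ 𝒴)

/-- If all base changes of `f` to slices have thin fibres then `f` is faithful. -/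
theorem faithful_of_thin_fp_slices (h𝒳 : FibCat.IsFibGrpd 𝒳.p) (h𝒴 : FibCat.IsFibGrpd 𝒴.p)
    (h : ∀ (U : C) (y : FibCat.overCat U ⥤ᵇ 𝒴) (V : C), Quiver.IsThin ((FibCat.fp y f).p.Fiber V)) :
    f.toFunctor.Faithful := by
  apply faithful_of_fiberFunctor_faithful f h𝒳 h𝒴
  intro U
  refine ⟨fun {X Y} a b hab => ?_⟩
  have hf : f.map a.1 = f.map b.1 := congrArg Subtype.val hab
  apply Functor.Fiber.hom_ext
  have hfib : 𝒴.p.IsFibered := isFibered_of_fibGrpd _ h𝒴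
  have hfY : 𝒴.p.obj (f.obj Y.1) = U := (f.w_obj Y.1).trans Y.2
  let y : FibCat.overCat U ⥤ᵇ 𝒴 := yonedaBased (f.obj Y.1) hfY
  let T : Over U := ovT U
  have hpT : 𝒴.p.IsHomLift (𝟙 U) (yonedaProj (f.obj Y.1) hfY T) :=
    (yonedaProj_isStronglyCartesian (f.obj Y.1) hfY T).toIsHomLift
  have iT : IsIso (yonedaProj (f.obj Y.1) hfY T) := isIso_of_lift_id 𝒴.p h𝒴 hpT
  have ha : 𝒳.p.IsHomLift (𝟙 U) a.1 := a.2
  have hb : 𝒳.p.IsHomLift (𝟙 U) b.1 := b.2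
  have hfa : 𝒴.p.IsHomLift (𝟙 U) (f.map a.1) := (BasedFunctor.isHomLift_iff f _ _).mpr ha
  have ifa : IsIso (f.map a.1) := isIso_of_lift_id 𝒴.p h𝒴 hfa
  have hfainv : 𝒴.p.IsHomLift (𝟙 U) (inv (f.map a.1)) := lift_inv_of_isIso 𝒴.p _ hfa
  -- the two objects of the fibre product
  let θ : y.obj T ≅ f.obj X.1 :=
    @asIso _ _ _ _ (yonedaProj (f.obj Y.1) hfY T) iT ≪≫ (@asIso _ _ _ _ (f.map a.1) ifa).symm
  let θ' : y.obj T ≅ f.obj Y.1 := @asIso _ _ _ _ (yonedaProj (f.obj Y.1) hfY T) iT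
  have hθ : 𝒴.p.IsHomLift (𝟙 U) θ.hom := lift_id_comp_id 𝒴.p hpT hfainv
  let z : (FibCat.fp y f).obj := ⟨⟨T, X.1, θ⟩, hθ⟩
  let z' : (FibCat.fp y f).obj := ⟨⟨T, Y.1, θ'⟩, hpT⟩
  have hw : y.map (𝟙 T) ≫ θ'.hom = θ.hom ≫ f.map a.1 := by
    show y.map (𝟙 T) ≫ yonedaProj (f.obj Y.1) hfY T =
      (yonedaProj (f.obj Y.1) hfY T ≫ inv (f.map a.1)) ≫ f.map a.1
    have h1 : y.map (𝟙 T) = 𝟙 (y.obj T) := y.toFunctor.map_id T
    have h2 : (yonedaProj (f.obj Y.1) hfY T ≫ inv (f.map a.1)) ≫ f.map a.1 =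
        yonedaProj (f.obj Y.1) hfY T := by simp
    exact (congrArg (· ≫ yonedaProj (f.obj Y.1) hfY T) h1).trans
      ((Category.id_comp _).trans h2.symm)
  have hw' : y.map (𝟙 T) ≫ θ'.hom = θ.hom ≫ f.map b.1 := by rw [← hf]; exact hw
  let m : z ⟶ z' := fpHomMk y f (z := z) (z' := z') (𝟙 T) a.1 hw
  let m' : z ⟶ z' := fpHomMk y f (z := z) (z' := z') (𝟙 T) b.1 hw'
  have hid : (FibCat.overCat U).p.IsHomLift (𝟙 U) (𝟙 T) := IsHomLift.id rfl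
  have hm : (FibCat.fp y f).p.IsHomLift (𝟙 U) m := by
    have : (FibCat.overCat U).p.IsHomLift (𝟙 U) m.hom.fst := hid
    exact fp_isHomLift_of_fst y f m (𝟙 U)
  have hm' : (FibCat.fp y f).p.IsHomLift (𝟙 U) m' := by
    have : (FibCat.overCat U).p.IsHomLift (𝟙 U) m'.hom.fst := hid
    exact fp_isHomLift_of_fst y f m' (𝟙 U)
  let Z : (FibCat.fp y f).p.Fiber U := ⟨z, rfl⟩
  let Z' : (FibCat.fp y f).p.Fiber U := ⟨z', rfl⟩
  let μ : Z ⟶ Z' := ⟨m, hm⟩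
  let μ' : Z ⟶ Z' := ⟨m', hm'⟩
  have hμ : μ = μ' := (h U y U Z Z').elim μ μ'
  have hmm : m = m' := congrArg Subtype.val hμ
  have : m.hom.snd = m'.hom.snd := by rw [hmm]
  exact this

end

end Groth.Agent.H64
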