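import Groth.Agent.H64.Stk.FpPaste
import Groth.Agent.H64.Stk.FpPaste2

set_option autoImplicit false
open CategoryTheory CategoryTheory.Limits
universe v₇ u₇ v₆ u₆ v₅ u₅ v₄ u₄ v₃ u₃ v₂ u₂ v u

namespace Groth.Agent.H64

open Groth.Agent.H32

variable {C : Type u} [Category.{v} C]

section whisk

variable {𝒜 : BasedCategory.{v₂, u₂} C} {𝒴 : BasedCategory.{v₃, u₃} C}
  {𝒴' : BasedCategory.{v₄, u₄} C}

/-- `G ⋙ b⁻¹ ⋙ b ≅ G` -/
def compInvIso {b : 𝒴' ⥤ᵇ 𝒴} (d : EquivOverData b) (G : 𝒜 ⥤ᵇ 𝒴) :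
    BasedFunctor.comp (BasedFunctor.comp G d.inv) b ≅ BasedFunctor.comp (BasedFunctor.id 𝒜) G :=
  mkBIso (fun u => bappIso d.counit (G.obj u))
    (fun m => bapp_naturality d.counit.hom (G.map m))
    (fun u => bapp_isHomLift' d.counit.hom (G.obj u) (G.w_obj u))

end whisk

section square

variable {𝒳 : BasedCategory.{v₂, u₂} C} {𝒴 : BasedCategory.{v₃, u₃} C}
  {𝒳' : BasedCategory.{v₄, u₄} C} {𝒴' : BasedCategory.{v₅, u₅} C}
  (f : 𝒳 ⥤ᵇ 𝒴) (f' : 𝒳' ⥤ᵇ 𝒴') (a : 𝒳' ⥤ᵇ 𝒳) (b : 𝒴' ⥤ᵇ 𝒴)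
  (ha : FibCat.IsEquivOver a) (hb : FibCat.IsEquivOver b)
  (e : BasedFunctor.comp f' b ≅ BasedFunctor.comp a f)

include ha hb e

/-- base change of `f'` along `G'` is equivalent to base change of `f` along `G' ⋙ b` -/
theorem exists_equiv_fp_of_square {𝒜 : BasedCategory.{v₆, u₆} C} (G' : 𝒜 ⥤ᵇ 𝒴') :
    ∃ Ψ : FibCat.fp G' f' ⥤ᵇ FibCat.fp (BasedFunctor.comp G' b) f, FibCat.IsEquivOver Ψ ∧
      BasedFunctor.comp Ψ (FibCat.fpFst (BasedFunctor.comp G' b) f) = FibCat.fpFst G' f' := by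
  have := full_of_isEquivOver hb
  have := faithful_of_isEquivOver hb
  refine ⟨fpMap (BasedFunctor.comp G' b) f G' f' (BasedFunctor.id 𝒜) a b (Iso.refl _) e,
    isEquivOver_fpMap _ _ _ _ _ _ _ _ _ (isEquivOver_id 𝒜) ha, rfl⟩

/-- base change of `f` along `G` is equivalent to base change of `f'` along `G ⋙ b⁻¹` -/
theorem exists_equiv_fp_of_square' {𝒜 : BasedCategory.{v₆, u₆} C} (G : 𝒜 ⥤ᵇ 𝒴) :
    ∃ (G' : 𝒜 ⥤ᵇ 𝒴') (Ψ : FibCat.fp G' f' ⥤ᵇ FibCat.fp G f), FibCat.IsEquivOver Ψ ∧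
      BasedFunctor.comp Ψ (FibCat.fpFst G f) = FibCat.fpFst G' f' := by
  have := full_of_isEquivOver hb
  have := faithful_of_isEquivOver hb
  obtain ⟨d⟩ := IsEquivOver.nonempty_data hb
  refine ⟨BasedFunctor.comp G d.inv,
    fpMap G f (BasedFunctor.comp G d.inv) f' (BasedFunctor.id 𝒜) a b (compInvIso d G) e,
    isEquivOver_fpMap _ _ _ _ _ _ _ _ _ (isEquivOver_id 𝒜) ha, rfl⟩

theorem isRepresentable1_of_square (hf : FibCat.IsRepresentable1 f) :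
    FibCat.IsRepresentable1 f' := by
  intro U G'
  obtain ⟨Ψ, hΨ, -⟩ := exists_equiv_fp_of_square f f' a b ha hb e G'
  exact isRepresentable_of_isEquivOver hΨ (hf U (BasedFunctor.comp G' b))

theorem isRepresentable1_of_square' (hf' : FibCat.IsRepresentable1 f') :
    FibCat.IsRepresentable1 f := by
  intro U G
  obtain ⟨G', Ψ, hΨ, -⟩ := exists_equiv_fp_of_square' f f' a b ha hb e G
  exact isRepresentable_of_isEquivOver' hΨ (hf' U G')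

end square

section comp

variable {𝒳 : BasedCategory.{v₂, u₂} C} {𝒴 : BasedCategory.{v₃, u₃} C}
  {𝒵 : BasedCategory.{v₄, u₄} C}

/-- base change of the first functor along an equivalence -/
theorem isEquivOver_fpMap_left {𝒲 : BasedCategory.{v₅, u₅} C} {𝒲' : BasedCategory.{v₆, u₆} C}
    (f : 𝒳 ⥤ᵇ 𝒴) (H : 𝒲 ⥤ᵇ 𝒴) (ε : 𝒲' ⥤ᵇ 𝒲) (hε : FibCat.IsEquivOver ε) :
    ∃ Ψ : FibCat.fp (BasedFunctor.comp ε H) f ⥤ᵇ FibCat.fp H f, FibCat.IsEquivOver Ψ ∧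
      BasedFunctor.comp Ψ (FibCat.fpFst H f) =
        BasedFunctor.comp (FibCat.fpFst (BasedFunctor.comp ε H) f) ε := by
  have : (BasedFunctor.id 𝒴).toFunctor.Full := (inferInstance : (𝟭 𝒴.obj).Full)
  have : (BasedFunctor.id 𝒴).toFunctor.Faithful := (inferInstance : (𝟭 𝒴.obj).Faithful)
  refine ⟨fpMap H f (BasedFunctor.comp ε H) f ε (BasedFunctor.id 𝒳) (BasedFunctor.id 𝒴)
    (Iso.refl _) (Iso.refl _), isEquivOver_fpMap _ _ _ _ _ _ _ _ _ hε (isEquivOver_id 𝒳), rfl⟩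

theorem isRepresentable1_comp {𝒳 𝒴 𝒵 : BasedCategory.{v, max u v} C} (f : 𝒳 ⥤ᵇ 𝒴) (g : 𝒴 ⥤ᵇ 𝒵)
    (hf : FibCat.IsRepresentable1 f) (hg : FibCat.IsRepresentable1 g) :
    FibCat.IsRepresentable1 (BasedFunctor.comp f g) := by
  intro U G
  obtain ⟨V, Φ, hΦ⟩ := hg U G
  obtain ⟨d⟩ := IsEquivOver.nonempty_data hΦ
  -- `ε : C/V ≃ (C/U) ×_𝒵 𝒴`
  have hε : FibCat.IsEquivOver d.inv := isEquivOver_inv d
  obtain ⟨Ψ, hΨ, -⟩ := isEquivOver_fpMap_left f (FibCat.fpSnd G g) d.inv hε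
  have h1 : FibCat.IsRepresentable (FibCat.fp (FibCat.fpSnd G g) f) :=
    isRepresentable_of_isEquivOver' hΨ (hf V (BasedFunctor.comp d.inv (FibCat.fpSnd G g)))
  exact isRepresentable_of_isEquivOver (isEquivOver_fpPaste₂ f g G) h1

end comp

end Groth.Agent.H64
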