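import Groth.Agent.H64.OverMapRep

set_option autoImplicit false
open CategoryTheory CategoryTheory.Limits
universe v₃ u₃ v₂ u₂ v u

namespace Groth.Agent.H64

open Groth.Agent.H32

variable {C : Type u} [Category.{v} C] {𝒳 : BasedCategory.{v₂, u₂} C}
  {𝒴 : BasedCategory.{v₃, u₃} C}

section fwd

variable {𝒜 : BasedCategory.{v, max u v} C} (F : 𝒳 ⥤ᵇ 𝒴)

theorem whiskerRight_injective_of_faithful [F.toFunctor.Faithful] {G H : 𝒜 ⥤ᵇ 𝒳}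
    (α α' : G ⟶ H)
    (h : BasedCategory.whiskerRight α F = BasedCategory.whiskerRight α' F) : α = α' := by
  apply bext
  intro a
  apply F.toFunctor.map_injective
  exact congrArg (fun t => bapp t a) h

theorem whiskerRight_surjective_of_full [F.toFunctor.Full] [F.toFunctor.Faithful] {G H : 𝒜 ⥤ᵇ 𝒳}
    (β : BasedFunctor.comp G F ⟶ BasedFunctor.comp H F) :
    ∃ α : G ⟶ H, BasedCategory.whiskerRight α F = β := by
  let βa : ∀ a : 𝒜.obj, F.toFunctor.obj (G.obj a) ⟶ F.toFunctor.obj (H.obj a) := fun a => bapp β a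
  let pa : ∀ a : 𝒜.obj, G.obj a ⟶ H.obj a := fun a => F.toFunctor.preimage (βa a)
  have hpa : ∀ a, F.toFunctor.map (pa a) = βa a := fun a => F.toFunctor.map_preimage (βa a)
  have hnat : ∀ {a b : 𝒜.obj} (m : a ⟶ b),
      F.toFunctor.map (G.map m) ≫ βa b = βa a ≫ F.toFunctor.map (H.map m) :=
    fun m => bapp_naturality β m
  refine ⟨mkB pa (fun {a b} m => ?_) (fun a => ?_), ?_⟩
  · apply F.toFunctor.map_injective
    rw [Functor.map_comp, Functor.map_comp, hpa, hpa]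
    exact hnat m
  · have h1 : 𝒴.p.IsHomLift (𝟙 (𝒜.p.obj a)) (F.map (pa a)) := by
      show 𝒴.p.IsHomLift (𝟙 (𝒜.p.obj a)) (F.toFunctor.map (pa a))
      rw [hpa]
      exact bapp_isHomLift β a
    exact (BasedFunctor.isHomLift_iff F _ _).mp h1
  · apply bext
    intro a
    exact hpa a

end fwd

section aux

variable {D : Type u₂} [Category.{v₂} D] {E : Type u₃} [Category.{v₃} E]

theorem map_conj_eq_id (F : D ⥤ E) {a b : D} (i : a ≅ b) (χ : b ⟶ b) (h : F.map χ = 𝟙 _) :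
    F.map (i.hom ≫ χ ≫ i.inv) = 𝟙 _ := by
  rw [F.map_comp, F.map_comp, h, Category.id_comp, ← F.map_comp, i.hom_inv_id, F.map_id]

theorem eq_id_of_conj_eq_id {a b : D} (i : a ≅ b) (χ : b ⟶ b) (h : i.hom ≫ χ ≫ i.inv = 𝟙 _) :
    χ = 𝟙 _ := by
  have h4 : χ = i.inv ≫ (i.hom ≫ χ ≫ i.inv) ≫ i.hom := by simp
  rw [h4, h, Category.id_comp, i.inv_hom_id]

theorem map_conj_eq (F : D ⥤ E) {a b a' b' : D} (i : a ≅ b) (j : a' ≅ b') (χ : b ⟶ b')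
    (θ : F.obj b ⟶ F.obj b') (h : F.map χ = θ) :
    F.map (i.hom ≫ χ ≫ j.inv) = F.map i.hom ≫ θ ≫ F.map j.inv := by
  rw [F.map_comp, F.map_comp, h]

theorem conj_conj {a b a' b' : D} (i : a ≅ b) (j : a' ≅ b') (ψ : a ⟶ a') :
    i.hom ≫ (i.inv ≫ ψ ≫ j.hom) ≫ j.inv = ψ := by simp

theorem map_unconj (F : D ⥤ E) {a b a' b' : D} (i : a ≅ b) (j : a' ≅ b') (ψ : a ⟶ a')
    (θ : F.obj b ⟶ F.obj b') (h : F.map ψ = F.map i.hom ≫ θ ≫ F.map j.inv) :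
    F.map (i.inv ≫ ψ ≫ j.hom) = θ := by
  rw [F.map_comp, F.map_comp, h]
  simp only [Category.assoc, ← F.map_comp, Iso.inv_hom_id, F.map_id, Category.comp_id]
  rw [← Category.assoc, ← F.map_comp, Iso.inv_hom_id, F.map_id, Category.id_comp]

end aux

section bwd

theorem exists_yoneda (h𝒳 : FibCat.IsFibGrpd 𝒳.p) (x : 𝒳.obj) {U : C} (hx : 𝒳.p.obj x = U) :
    ∃ (G : FibCat.overCat U ⥤ᵇ 𝒳) (i : (und G).obj (ovT U) ≅ x), 𝒳.p.IsHomLift (𝟙 U) i.hom := by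
  have := isFibered_of_fibGrpd 𝒳.p h𝒳
  have hs : 𝒳.p.IsStronglyCartesian (𝟙 U) (yonedaProj x hx (ovT U)) :=
    yonedaProj_isStronglyCartesian x hx (ovT U)
  have hl : 𝒳.p.IsHomLift (𝟙 U) (yonedaProj x hx (ovT U)) := hs.toIsHomLift
  have : IsIso (yonedaProj x hx (ovT U)) := isIso_of_lift_id 𝒳.p h𝒳 hl
  exact ⟨yonedaBased x hx, @asIso _ _ _ _ (yonedaProj x hx (ovT U)) this, hl⟩

variable (h𝒳 : FibCat.IsFibGrpd 𝒳.p) (h𝒴 : FibCat.IsFibGrpd 𝒴.p) (F : 𝒳 ⥤ᵇ 𝒴)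

include h𝒳 h𝒴

theorem faithful_of_postcomp
    (hfaith : ∀ (U : C) (G H : FibCat.overCat U ⥤ᵇ 𝒳) (α α' : G ⟶ H),
      BasedCategory.whiskerRight α F = BasedCategory.whiskerRight α' F → α = α') :
    F.toFunctor.Faithful := by
  refine ⟨fun {x y} φ φ' hφ => ?_⟩
  have hφ' : F.map φ = F.map φ' := hφ
  -- both lie over the same morphism
  have hl : 𝒳.p.IsHomLift (𝒳.p.map φ) φ' := by
    rw [← BasedFunctor.isHomLift_iff F, ← hφ']
    exact BasedFunctor.preserves_isHomLift F _ φ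
  -- `φ` is cartesian: factor `φ'` through it
  have hc : 𝒳.p.IsStronglyCartesian (𝒳.p.map φ) φ := h𝒳.isStronglyCartesian φ
  obtain ⟨χ, hχ, hχ'⟩ := cart_lift_id 𝒳.p hc φ' hl
  -- it suffices to show `χ = 𝟙`
  suffices h : χ = 𝟙 x by rw [← hχ', h, Category.id_comp]
  have hFc : 𝒴.p.IsStronglyCartesian (𝒳.p.map φ) (F.map φ) :=
    cart_of_fibGrpd 𝒴.p h𝒴 (BasedFunctor.preserves_isHomLift F _ φ)
  have hFχ : F.map χ = 𝟙 (F.obj x) := by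
    apply cart_ext 𝒴.p hFc (𝟙 (𝒳.p.obj x)) (BasedFunctor.preserves_isHomLift F _ χ)
      (IsHomLift.id (F.w_obj x))
    rw [← F.map_comp, hχ', Category.id_comp, hφ']
  obtain ⟨G, i, hi⟩ := exists_yoneda h𝒳 x rfl
  have hii : 𝒳.p.IsHomLift (𝟙 (𝒳.p.obj x)) i.inv := lift_inv_of_iso 𝒳.p i hi
  have hG := preserves_of_isFibGrpd h𝒳 G
  have hGF := preserves_of_isFibGrpd h𝒴 (BasedFunctor.comp G F)
  obtain ⟨α, hα⟩ := exists_undNat_of_app_T hG (i.hom ≫ χ ≫ i.inv)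
    (lift_id_comp_id 𝒳.p hi (lift_id_comp_id 𝒳.p hχ hii))
  have h1 : BasedCategory.whiskerRight α F = BasedCategory.whiskerRight (𝟙 G) F := by
    apply undNat_ext_of_app_T hGF
    show F.toFunctor.map ((undNat α).app (ovT (𝒳.p.obj x))) = F.toFunctor.map (𝟙 _)
    rw [hα, F.toFunctor.map_id]
    exact map_conj_eq_id F.toFunctor i χ hFχ
  have h2 := hfaith _ G G α (𝟙 G) h1
  have h3 : i.hom ≫ χ ≫ i.inv = 𝟙 _ := by
    rw [← hα, h2]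
    rfl
  exact eq_id_of_conj_eq_id i χ h3

theorem full_of_postcomp
    (hfull : ∀ (U : C) (G H : FibCat.overCat U ⥤ᵇ 𝒳)
      (β : BasedFunctor.comp G F ⟶ BasedFunctor.comp H F),
      ∃ α : G ⟶ H, BasedCategory.whiskerRight α F = β) :
    F.toFunctor.Full := by
  refine ⟨fun {x y} θ => ?_⟩
  let U : C := 𝒳.p.obj x
  have hFx : 𝒴.p.obj (F.obj x) = U := F.w_obj x
  have hFy : 𝒴.p.obj (F.obj y) = 𝒳.p.obj y := F.w_obj y
  let f : U ⟶ 𝒳.p.obj y := eqToHom hFx.symm ≫ 𝒴.p.map θ ≫ eqToHom hFy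
  have hθ : 𝒴.p.IsHomLift f θ := IsHomLift.of_fac 𝒴.p f θ hFx hFy (by simp [f])
  obtain ⟨z, c, hc⟩ := h𝒳.exists_lift (x := y) f
  have hz : 𝒳.p.obj z = U := lift_domain_eq 𝒳.p hc
  have hFc : 𝒴.p.IsStronglyCartesian f (F.map c) :=
    cart_of_fibGrpd 𝒴.p h𝒴 (BasedFunctor.preserves_isHomLift F f c)
  obtain ⟨θ₀, hθ₀, hθ₀'⟩ := cart_lift_id 𝒴.p hFc θ hθ
  obtain ⟨G, i, hi⟩ := exists_yoneda h𝒳 x (rfl : 𝒳.p.obj x = U)
  obtain ⟨H, j, hj⟩ := exists_yoneda h𝒳 z hz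
  have hii : 𝒳.p.IsHomLift (𝟙 U) i.inv := lift_inv_of_iso 𝒳.p i hi
  have hji : 𝒳.p.IsHomLift (𝟙 U) j.inv := lift_inv_of_iso 𝒳.p j hj
  have hHF := preserves_of_isFibGrpd h𝒴 (BasedFunctor.comp H F)
  have hFi : 𝒴.p.IsHomLift (𝟙 U) (F.map i.hom) := BasedFunctor.preserves_isHomLift F _ i.hom
  have hFji : 𝒴.p.IsHomLift (𝟙 U) (F.map j.inv) := BasedFunctor.preserves_isHomLift F _ j.inv
  obtain ⟨β, hβ⟩ := exists_undNat_of_app_T (G := BasedFunctor.comp G F)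
    (H := BasedFunctor.comp H F) hHF (F.map i.hom ≫ θ₀ ≫ F.map j.inv)
    (lift_id_comp_id 𝒴.p hFi (lift_id_comp_id 𝒴.p hθ₀ hFji))
  obtain ⟨α, hα⟩ := hfull U G H β
  let ψ : (und G).obj (ovT U) ⟶ (und H).obj (ovT U) := (undNat α).app (ovT U)
  have hψ : F.toFunctor.map ψ = F.toFunctor.map i.hom ≫ θ₀ ≫ F.toFunctor.map j.inv :=
    (show F.toFunctor.map ψ = (undNat (BasedCategory.whiskerRight α F)).app (ovT U) from rfl).trans
      ((congrArg (fun t => (undNat t).app (ovT U)) hα).trans hβ)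
  refine ⟨(i.inv ≫ ψ ≫ j.hom) ≫ c, ?_⟩
  rw [F.toFunctor.map_comp]
  have h1 : F.toFunctor.map (i.inv ≫ ψ ≫ j.hom) = θ₀ := map_unconj F.toFunctor i j ψ θ₀ hψ
  rw [h1]
  exact hθ₀'

end bwd

end Groth.Agent.H64
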