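import Groth.Agent.H64.Stk.LocEss
import Groth.Agent.H32.Fiberwise

set_option autoImplicit false
open CategoryTheory CategoryTheory.Limits
universe v₆ u₆ v₅ u₅ v₄ u₄ v₃ u₃ v₂ u₂ v u

namespace Groth.Agent.H64

open Groth.Agent.H32

variable {C : Type u} [Category.{v} C]

section aux3

variable {D : Type u₂} [Category.{v₂} D]

theorem key_aux {A A' B B' t t' : D} (γY : A ⟶ A') (pY' : A' ⟶ t') (m : A ⟶ B) (m' : A' ⟶ B')
    (γT : B ⟶ B') (pT : B ⟶ t) (pT' : B' ⟶ t') [IsIso pT'] (pY : A ⟶ t) (c : t ⟶ t')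
    (hnat : m ≫ γT = γY ≫ m') (h1 : m ≫ pT = pY) (h2 : m' ≫ pT' = pY')
    (hγ : γT = pT ≫ c ≫ inv pT') : γY ≫ pY' = pY ≫ c := by
  rw [← h2, ← Category.assoc, ← hnat, hγ, ← h1]
  simp

end aux3

section faithfulGlue

variable {𝒯 : BasedCategory.{v₂, u₂} C}

/-- Concrete form of "morphisms glue uniquely": two morphisms over an identity which agree after
restriction along every arrow of a sieve for which restriction is faithful are equal. -/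
theorem hom_ext_of_restr_faithful (h𝒯 : FibCat.IsFibGrpd 𝒯.p) {U : C} (R : Sieve U)
    (hR : (Stk.resSieve R 𝒯).Faithful) {t t' : 𝒯.obj} (ht : 𝒯.p.obj t = U) (ht' : 𝒯.p.obj t' = U)
    (a b : t ⟶ t') (ha : 𝒯.p.IsHomLift (𝟙 U) a) (hb : 𝒯.p.IsHomLift (𝟙 U) b)
    (hloc : ∀ ⦃V : C⦄ (f : V ⟶ U), R f → ∀ (s : 𝒯.obj) (ψ : s ⟶ t), 𝒯.p.IsHomLift f ψ →
      ψ ≫ a = ψ ≫ b) : a = b := by
  have hfib : 𝒯.p.IsFibered := isFibered_of_fibGrpd _ h𝒯
  let T : Over U := ovT U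
  -- projections at the terminal object are isomorphisms
  have hpT : 𝒯.p.IsHomLift (𝟙 U) (yonedaProj t ht T) :=
    (yonedaProj_isStronglyCartesian t ht T).toIsHomLift
  have hpT' : 𝒯.p.IsHomLift (𝟙 U) (yonedaProj t' ht' T) :=
    (yonedaProj_isStronglyCartesian t' ht' T).toIsHomLift
  have iT : IsIso (yonedaProj t ht T) := isIso_of_lift_id 𝒯.p h𝒯 hpT
  have iT' : IsIso (yonedaProj t' ht' T) := isIso_of_lift_id 𝒯.p h𝒯 hpT'
  have hinv' : 𝒯.p.IsHomLift (𝟙 U) (inv (yonedaProj t' ht' T)) :=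
    lift_inv_of_isIso 𝒯.p _ hpT'
  -- natural transformations induced by `a` and `b`
  have hψa : 𝒯.p.IsHomLift (𝟙 U) (yonedaProj t ht T ≫ a ≫ inv (yonedaProj t' ht' T)) :=
    lift_id_comp_id 𝒯.p hpT (lift_id_comp_id 𝒯.p ha hinv')
  have hψb : 𝒯.p.IsHomLift (𝟙 U) (yonedaProj t ht T ≫ b ≫ inv (yonedaProj t' ht' T)) :=
    lift_id_comp_id 𝒯.p hpT (lift_id_comp_id 𝒯.p hb hinv')
  obtain ⟨α, hα⟩ := exists_undNat_of_app_T (G := yonedaBased t ht) (H := yonedaBased t' ht')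
    (yonedaBased_preserves t' ht') _ hψa
  obtain ⟨β, hβ⟩ := exists_undNat_of_app_T (G := yonedaBased t ht) (H := yonedaBased t' ht')
    (yonedaBased_preserves t' ht') _ hψb
  -- key: components against the projections
  have key : ∀ (γ : yonedaBased t ht ⟶ yonedaBased t' ht') (c : t ⟶ t'),
      (undNat γ).app T = yonedaProj t ht T ≫ c ≫ inv (yonedaProj t' ht' T) →
      ∀ Y : Over U, (undNat γ).app Y ≫ yonedaProj t' ht' Y = yonedaProj t ht Y ≫ c := by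
    intro γ c hγ Y
    have hnat := (undNat γ).naturality (ovTo Y)
    have h1 : (yonedaFunctor t ht).map (ovTo Y) ≫ yonedaProj t ht T = yonedaProj t ht Y :=
      yonedaFunctor_map_fac t ht (ovTo Y)
    have h2 : (yonedaFunctor t' ht').map (ovTo Y) ≫ yonedaProj t' ht' T = yonedaProj t' ht' Y :=
      yonedaFunctor_map_fac t' ht' (ovTo Y)
    have hnat' : (yonedaFunctor t ht).map (ovTo Y) ≫ (undNat γ).app T =
        (undNat γ).app Y ≫ (yonedaFunctor t' ht').map (ovTo Y) := hnat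
    exact key_aux ((undNat γ).app Y) (yonedaProj t' ht' Y) ((yonedaFunctor t ht).map (ovTo Y))
      ((yonedaFunctor t' ht').map (ovTo Y)) ((undNat γ).app T) (yonedaProj t ht T)
      (yonedaProj t' ht' T) (yonedaProj t ht Y) c hnat' h1 h2 hγ
  have hαβ : α = β := by
    apply (restr_faithful_iff _ _).mp hR
    intro r
    change (undNat α).app r.obj = (undNat β).app r.obj
    have hsr : 𝒯.p.IsStronglyCartesian r.obj.hom (yonedaProj t' ht' r.obj) :=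
      yonedaProj_isStronglyCartesian t' ht' r.obj
    have hl1 : 𝒯.p.IsHomLift (𝟙 r.obj.left) ((undNat α).app r.obj) :=
      undNat_app_isHomLift α r.obj
    have hl2 : 𝒯.p.IsHomLift (𝟙 r.obj.left) ((undNat β).app r.obj) :=
      undNat_app_isHomLift β r.obj
    apply cart_ext 𝒯.p hsr (𝟙 r.obj.left) hl1 hl2
    have hp : 𝒯.p.IsHomLift r.obj.hom (yonedaProj t ht r.obj) :=
      (yonedaProj_isStronglyCartesian t ht r.obj).toIsHomLift
    exact (key α a hα r.obj).trans ((hloc r.obj.hom r.property _ _ hp).trans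
      (key β b hβ r.obj).symm)
  have h3 : yonedaProj t ht T ≫ a ≫ inv (yonedaProj t' ht' T) =
      yonedaProj t ht T ≫ b ≫ inv (yonedaProj t' ht' T) := by
    rw [← hα, ← hβ, hαβ]
  have h4 := (cancel_epi _).mp h3
  exact (cancel_mono _).mp h4

end faithfulGlue

section faithfulDescent

variable {𝒮₁ : BasedCategory.{v₂, u₂} C} {𝒮₂ : BasedCategory.{v₃, u₃} C}
  {𝒯₁ : BasedCategory.{v₄, u₄} C} (F : 𝒮₂ ⥤ᵇ 𝒮₁) (G : 𝒯₁ ⥤ᵇ 𝒮₁)

theorem faithful_of_faithful_fpFst (J : GrothendieckTopology C) (h₁ : FibCat.IsFibGrpd 𝒮₁.p)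
    (h₃ : FibCat.IsFibGrpd 𝒯₁.p)
    (h₃f : ∀ ⦃U : C⦄ (R : Sieve U), R ∈ J U → (Stk.resSieve R 𝒯₁).Faithful)
    (hF : ∀ y : 𝒮₁.obj, ∃ R ∈ J (𝒮₁.p.obj y), ∀ ⦃V : C⦄ (f : V ⟶ 𝒮₁.p.obj y), R f →
      ∃ (x : 𝒮₂.obj) (φ : F.obj x ⟶ y), 𝒮₁.p.IsHomLift f φ)
    (hG' : (FibCat.fpFst F G).toFunctor.Faithful) : G.toFunctor.Faithful := by
  apply faithful_of_fiberFunctor_faithful G h₃ h₁
  intro U₀
  refine ⟨fun {X Y} a b hab => ?_⟩
  have hG : G.map a.1 = G.map b.1 := congrArg Subtype.val hab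
  apply Functor.Fiber.hom_ext
  obtain ⟨R, hR, hloc⟩ := hF (G.obj Y.1)
  have hU : 𝒮₁.p.obj (G.obj Y.1) = U₀ := (G.w_obj Y.1).trans Y.2
  have hX : 𝒯₁.p.obj X.1 = 𝒮₁.p.obj (G.obj Y.1) := X.2.trans hU.symm
  have hY : 𝒯₁.p.obj Y.1 = 𝒮₁.p.obj (G.obj Y.1) := (G.w_obj Y.1).symm
  have ha : 𝒯₁.p.IsHomLift (𝟙 (𝒮₁.p.obj (G.obj Y.1))) a.1 := lift_id_congr _ a.2 hU.symm
  have hb : 𝒯₁.p.IsHomLift (𝟙 (𝒮₁.p.obj (G.obj Y.1))) b.1 := lift_id_congr _ b.2 hU.symm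
  apply hom_ext_of_restr_faithful h₃ R (h₃f R hR) hX hY a.1 b.1 ha hb
  intro V f hf s ψ hψ
  obtain ⟨x, φ, hφ⟩ := hloc f hf
  have ha' : 𝒯₁.p.IsHomLift f (ψ ≫ a.1) := lift_comp_id_right _ hψ ha
  have hb' : 𝒯₁.p.IsHomLift f (ψ ≫ b.1) := lift_comp_id_right _ hψ hb
  have hsa : 𝒯₁.p.IsStronglyCartesian f (ψ ≫ a.1) := cart_of_fibGrpd _ h₃ ha'
  obtain ⟨u, hu, hub⟩ := cart_lift_id 𝒯₁.p hsa (ψ ≫ b.1) hb'
  have hGa' : 𝒮₁.p.IsHomLift f (G.map (ψ ≫ a.1)) := (BasedFunctor.isHomLift_iff G _ _).mpr ha'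
  have hsGa : 𝒮₁.p.IsStronglyCartesian f (G.map (ψ ≫ a.1)) := cart_of_fibGrpd _ h₁ hGa'
  have hsV : 𝒮₁.p.obj (G.obj s) = V := lift_domain_eq _ hGa'
  have hGu : G.map u = 𝟙 (G.obj s) := by
    apply cart_ext 𝒮₁.p hsGa (𝟙 V) ((BasedFunctor.isHomLift_iff G _ _).mpr hu)
      (lift_id_of_obj _ hsV)
    rw [← G.map_comp, hub, Category.id_comp, G.map_comp, G.map_comp, hG]
  obtain ⟨θ, hθ, hθfac⟩ := cart_lift_id 𝒮₁.p hsGa φ hφ
  have hθiso : IsIso θ := isIso_of_lift_id _ h₁ hθ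
  have hxV : 𝒮₂.p.obj x = V := by
    rw [← F.w_obj]; exact lift_domain_eq _ hφ
  let z : (FibCat.fp F G).obj := ⟨⟨x, s, asIso θ⟩, lift_id_congr _ hθ hxV.symm⟩
  let m : z ⟶ z := fpHomMk F G (z := z) (z' := z) (𝟙 x) u (by
    show F.map (𝟙 x) ≫ θ = θ ≫ G.map u
    rw [hGu]; simp)
  have hm : m = 𝟙 z := hG'.map_injective (rfl : (FibCat.fpFst F G).map m = (FibCat.fpFst F G).map (𝟙 z))
  have hu1 : u = 𝟙 s := congrArg (fun k => k.hom.snd) hm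
  rw [← hub, hu1, Category.id_comp]

end faithfulDescent

end Groth.Agent.H64
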