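import Groth.Agent.H64.Stk.LocEss
import Groth.Agent.H64.Stk.FpStack
import Groth.Agent.H32.Fp

set_option autoImplicit false
open CategoryTheory CategoryTheory.Limits
universe v₇ u₇ v₆ u₆ v₅ u₅ v₄ u₄ v₃ u₃ v₂ u₂ v u

namespace Groth.Agent.H64

open Groth.Agent.H32

variable {C : Type u} [Category.{v} C]

section equivTools

variable {𝒳 : BasedCategory.{v₂, u₂} C} {𝒴 : BasedCategory.{v₃, u₃} C}
  {𝒵 : BasedCategory.{v₄, u₄} C}

theorem isEquivOver_of_equivOverData {F : 𝒳 ⥤ᵇ 𝒴} (d : EquivOverData F) : FibCat.IsEquivOver F :=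
  ⟨d.inv, ⟨d.unit⟩, ⟨d.counit⟩⟩

theorem isEquivOver_inv {F : 𝒳 ⥤ᵇ 𝒴} (d : EquivOverData F) : FibCat.IsEquivOver d.inv :=
  isEquivOver_of_equivOverData d.symm

theorem fiberwise_essSurj_of_equivOverData {F : 𝒳 ⥤ᵇ 𝒴} (d : EquivOverData F) (η : 𝒴.obj) :
    ∃ (ξ : 𝒳.obj) (e : F.obj ξ ≅ η), 𝒴.p.IsHomLift (𝟙 (𝒴.p.obj η)) e.hom :=
  ⟨d.inv.obj η, bappIso d.counit η, bapp_isHomLift d.counit.hom η⟩

theorem fiberwise_essSurj_of_isEquivOver {F : 𝒳 ⥤ᵇ 𝒴} (hF : FibCat.IsEquivOver F) (η : 𝒴.obj) :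
    ∃ (ξ : 𝒳.obj) (e : F.obj ξ ≅ η), 𝒴.p.IsHomLift (𝟙 (𝒴.p.obj η)) e.hom := by
  obtain ⟨d⟩ := IsEquivOver.nonempty_data hF
  exact fiberwise_essSurj_of_equivOverData d η

theorem full_of_isEquivOver {F : 𝒳 ⥤ᵇ 𝒴} (hF : FibCat.IsEquivOver F) : F.toFunctor.Full := by
  have := IsEquivOver.isEquivalence hF
  infer_instance

theorem faithful_of_isEquivOver {F : 𝒳 ⥤ᵇ 𝒴} (hF : FibCat.IsEquivOver F) :
    F.toFunctor.Faithful := by
  have := IsEquivOver.isEquivalence hF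
  infer_instance

theorem isEquivOver_comp {F : 𝒳 ⥤ᵇ 𝒴} {G : 𝒴 ⥤ᵇ 𝒵} (hF : FibCat.IsEquivOver F)
    (hG : FibCat.IsEquivOver G) : FibCat.IsEquivOver (BasedFunctor.comp F G) := by
  have hF1 := IsEquivOver.isEquivalence hF
  have hG1 := IsEquivOver.isEquivalence hG
  have hfull : (BasedFunctor.comp F G).toFunctor.Full :=
    (inferInstance : (F.toFunctor ⋙ G.toFunctor).Full)
  have hfaith : (BasedFunctor.comp F G).toFunctor.Faithful :=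
    (inferInstance : (F.toFunctor ⋙ G.toFunctor).Faithful)
  apply isEquivOver_of_fullyFaithful_of_fiberwise_essSurj
  intro ζ
  obtain ⟨η, e, he⟩ := fiberwise_essSurj_of_isEquivOver hG ζ
  obtain ⟨ξ, e', he'⟩ := fiberwise_essSurj_of_isEquivOver hF η
  have hη : 𝒴.p.obj η = 𝒵.p.obj ζ := (G.w_obj η).symm.trans (lift_domain_eq 𝒵.p he)
  have he'' : 𝒴.p.IsHomLift (𝟙 (𝒵.p.obj ζ)) e'.hom := lift_id_congr 𝒴.p he' hη
  have hGe' : 𝒵.p.IsHomLift (𝟙 (𝒵.p.obj ζ)) (G.map e'.hom) :=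
    (BasedFunctor.isHomLift_iff G _ _).mpr he''
  exact ⟨ξ, G.toFunctor.mapIso e' ≪≫ e, lift_id_comp_id 𝒵.p hGe' he⟩

theorem isEquivOver_of_iso {F G : 𝒳 ⥤ᵇ 𝒴} (e : F ≅ G) (hF : FibCat.IsEquivOver F) :
    FibCat.IsEquivOver G := by
  have hF1 := IsEquivOver.isEquivalence hF
  let e₀ : F.toFunctor ≅ G.toFunctor := (BasedNatTrans.forgetful _ _).mapIso e
  have hfull : G.toFunctor.Full := Functor.Full.of_iso e₀
  have hfaith : G.toFunctor.Faithful := Functor.Faithful.of_iso e₀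
  apply isEquivOver_of_fullyFaithful_of_fiberwise_essSurj
  intro η
  obtain ⟨ξ, ε, hε⟩ := fiberwise_essSurj_of_isEquivOver hF η
  have hξ : 𝒳.p.obj ξ = 𝒴.p.obj η := (F.w_obj ξ).symm.trans (lift_domain_eq 𝒴.p hε)
  have h1 : 𝒴.p.IsHomLift (𝟙 (𝒴.p.obj η)) (bapp e.inv ξ) := bapp_isHomLift' e.inv ξ hξ
  exact ⟨ξ, (bappIso e ξ).symm ≪≫ ε, lift_id_comp_id 𝒴.p h1 hε⟩

theorem isEquivOver_id (𝒳 : BasedCategory.{v₂, u₂} C) : FibCat.IsEquivOver (BasedFunctor.id 𝒳) := by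
  have hfull : (BasedFunctor.id 𝒳).toFunctor.Full := (inferInstance : (𝟭 𝒳.obj).Full)
  have hfaith : (BasedFunctor.id 𝒳).toFunctor.Faithful := (inferInstance : (𝟭 𝒳.obj).Faithful)
  apply isEquivOver_of_fullyFaithful_of_fiberwise_essSurj
  intro η
  exact ⟨η, Iso.refl _, IsHomLift.id rfl⟩

/-- representability is invariant under equivalence over `C` -/
theorem isRepresentable_of_isEquivOver {Φ : 𝒳 ⥤ᵇ 𝒴} (hΦ : FibCat.IsEquivOver Φ)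
    (h : FibCat.IsRepresentable 𝒴) : FibCat.IsRepresentable 𝒳 := by
  obtain ⟨U, F, hF⟩ := h
  exact ⟨U, BasedFunctor.comp Φ F, isEquivOver_comp hΦ hF⟩

theorem isRepresentable_of_isEquivOver' {Φ : 𝒳 ⥤ᵇ 𝒴} (hΦ : FibCat.IsEquivOver Φ)
    (h : FibCat.IsRepresentable 𝒳) : FibCat.IsRepresentable 𝒴 := by
  obtain ⟨d⟩ := IsEquivOver.nonempty_data hΦ
  exact isRepresentable_of_isEquivOver (isEquivOver_inv d) h

end equivTools

end Groth.Agent.H64
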