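import Groth.Agent.H64.Stk.PshStack
import Groth.Agent.H64.Stk.LocEss

set_option autoImplicit false
open CategoryTheory CategoryTheory.Limits Opposite
universe v u

namespace Groth.Agent.H64

open Groth.Agent.H32

variable {C : Type u} [Category.{v} C] (U : C)

/-- the slice `C/U` as the category of the representable presheaf `h_U` -/
def overToYoneda : FibCat.overCat U ⥤ᵇ Stk.ofPsh (yoneda.obj U) where
  toFunctor :=
    { obj := fun a => ⟨a.left, a.hom⟩
      map := fun {a b} m => ⟨m.left, Over.w m⟩
      map_id := fun a => by apply Stk.EltObj.hom_ext; rfl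
      map_comp := fun m m' => by apply Stk.EltObj.hom_ext; rfl }
  w := rfl

theorem overToYoneda_faithful : (overToYoneda U).toFunctor.Faithful := by
  refine ⟨fun {a b} m m' h => ?_⟩
  apply Over.OverMorphism.ext
  exact congrArg (fun t => t.hom) h

theorem overToYoneda_full : (overToYoneda U).toFunctor.Full := by
  refine ⟨fun {a b} φ => ?_⟩
  refine ⟨Over.homMk φ.hom φ.map_sec, ?_⟩
  apply Stk.EltObj.hom_ext
  rfl

theorem isEquivOver_overToYoneda : FibCat.IsEquivOver (overToYoneda U) := by
  have := overToYoneda_full U
  have := overToYoneda_faithful U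
  apply isEquivOver_of_fullyFaithful_of_fiberwise_essSurj
  intro η
  exact ⟨Over.mk η.sec, Iso.refl _, IsHomLift.id rfl⟩

theorem isStack_overCat_iff_isSheaf_yoneda (J : GrothendieckTopology C) :
    Stk.IsStack J (FibCat.overCat U) ↔ Presieve.IsSheaf J (yoneda.obj U) :=
  (isStack_iff_of_isEquivOver J (isEquivOver_overToYoneda U)).trans
    (isStack_ofPsh_iff_isSheaf J (yoneda.obj U))

end Groth.Agent.H64
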