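import Groth.Agent.H64.Stk.EquivTools

set_option autoImplicit false
open CategoryTheory CategoryTheory.Limits
universe v₇ u₇ v₆ u₆ v₅ u₅ v₄ u₄ v₃ u₃ v₂ u₂ v u

namespace Groth.Agent.H64

open Groth.Agent.H32

variable {C : Type u} [Category.{v} C]

section aux

variable {D : Type u₂} [Category.{v₂} D]

theorem fpMap_nat_aux {X₁ X₂ Y₁ Y₂ Z₁ Z₂ W₁ W₂ : D} (Fam : X₁ ⟶ X₂) (αi₁ : X₁ ⟶ Y₁)
    (αi₂ : X₂ ⟶ Y₂) (cF : Y₁ ⟶ Y₂) (cφ₁ : Y₁ ⟶ Z₁) (cφ₂ : Y₂ ⟶ Z₂) (cG : Z₁ ⟶ Z₂) (β₁ : Z₁ ⟶ W₁)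
    (β₂ : Z₂ ⟶ W₂) (Gbm : W₁ ⟶ W₂) (h1 : Fam ≫ αi₂ = αi₁ ≫ cF) (h2 : cF ≫ cφ₂ = cφ₁ ≫ cG)
    (h3 : cG ≫ β₂ = β₁ ≫ Gbm) : Fam ≫ αi₂ ≫ cφ₂ ≫ β₂ = (αi₁ ≫ cφ₁ ≫ β₁) ≫ Gbm := by
  simp only [Category.assoc]
  rw [reassoc_of% h1, reassoc_of% h2, h3]

theorem fpMap_full_aux {X₁ X₂ Y₁ Y₂ Z₁ Z₂ W₁ W₂ : D} (Fam : X₁ ⟶ X₂) (αi₁ : X₁ ≅ Y₁)
    (αi₂ : X₂ ≅ Y₂) (cF : Y₁ ⟶ Y₂) (cφ₁ : Y₁ ⟶ Z₁) (cφ₂ : Y₂ ⟶ Z₂) (cG : Z₁ ⟶ Z₂) (β₁ : Z₁ ≅ W₁)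
    (β₂ : Z₂ ≅ W₂) (Gbm : W₁ ⟶ W₂) (h1 : Fam ≫ αi₂.hom = αi₁.hom ≫ cF)
    (h3 : cG ≫ β₂.hom = β₁.hom ≫ Gbm)
    (hw : Fam ≫ αi₂.hom ≫ cφ₂ ≫ β₂.hom = (αi₁.hom ≫ cφ₁ ≫ β₁.hom) ≫ Gbm) :
    cF ≫ cφ₂ = cφ₁ ≫ cG := by
  simp only [Category.assoc] at hw
  rw [reassoc_of% h1, ← h3] at hw
  rw [← cancel_epi αi₁.hom, ← cancel_mono β₂.hom]
  simpa using hw

end aux

section fpMap

variable {𝒳 : BasedCategory.{v₂, u₂} C} {𝒴 : BasedCategory.{v₃, u₃} C}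
  {𝒮 : BasedCategory.{v₄, u₄} C} {𝒳' : BasedCategory.{v₅, u₅} C} {𝒴' : BasedCategory.{v₆, u₆} C}
  {𝒮' : BasedCategory.{v₇, u₇} C}
variable (F : 𝒳 ⥤ᵇ 𝒮) (G : 𝒴 ⥤ᵇ 𝒮) (F' : 𝒳' ⥤ᵇ 𝒮') (G' : 𝒴' ⥤ᵇ 𝒮')
  (a : 𝒳' ⥤ᵇ 𝒳) (b : 𝒴' ⥤ᵇ 𝒴) (c : 𝒮' ⥤ᵇ 𝒮)
  (α : BasedFunctor.comp F' c ≅ BasedFunctor.comp a F)
  (β : BasedFunctor.comp G' c ≅ BasedFunctor.comp b G)

/-- the isomorphism component of the image of an object under `fpMap` -/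
def fpMapIso (z : (FibCat.fp F' G').obj) : F.obj (a.obj z.obj.fst) ≅ G.obj (b.obj z.obj.snd) :=
  (bappIso α z.obj.fst).symm ≪≫ c.toFunctor.mapIso z.obj.iso ≪≫ bappIso β z.obj.snd

theorem fpMapIso_hom (z : (FibCat.fp F' G').obj) :
    (fpMapIso F G F' G' a b c α β z).hom =
      bapp α.inv z.obj.fst ≫ c.map z.obj.iso.hom ≫ bapp β.hom z.obj.snd := rfl

theorem fpMapIso_isHomLift (z : (FibCat.fp F' G').obj) :
    𝒮.p.IsHomLift (𝟙 ((FibCat.fp F' G').p.obj z)) (fpMapIso F G F' G' a b c α β z).hom := by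
  have h1 : 𝒮.p.IsHomLift (𝟙 (𝒳'.p.obj z.obj.fst)) (bapp α.inv z.obj.fst) :=
    bapp_isHomLift α.inv z.obj.fst
  have h2 : 𝒮.p.IsHomLift (𝟙 (𝒳'.p.obj z.obj.fst)) (c.map z.obj.iso.hom) :=
    (BasedFunctor.isHomLift_iff c _ _).mpr (fp_iso_isHomLift F' G' z)
  have h3 : 𝒮.p.IsHomLift (𝟙 (𝒳'.p.obj z.obj.fst)) (bapp β.hom z.obj.snd) :=
    bapp_isHomLift' β.hom z.obj.snd (fp_snd_obj_eq F' G' z)
  exact lift_id_comp_id 𝒮.p h1 (lift_id_comp_id 𝒮.p h2 h3)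

/-- functoriality of the 2-fibre product -/
def fpMap : FibCat.fp F' G' ⥤ᵇ FibCat.fp F G :=
  FibCat.fpLift (BasedFunctor.comp (FibCat.fpFst F' G') a) (BasedFunctor.comp (FibCat.fpSnd F' G') b)
    (mkBIso (fun z => fpMapIso F G F' G' a b c α β z)
      (fun {z z'} m => by
        show F.map (a.map m.hom.fst) ≫ _ = _ ≫ G.map (b.map m.hom.snd)
        rw [fpMapIso_hom, fpMapIso_hom]
        refine fpMap_nat_aux _ _ _ (c.map (F'.map m.hom.fst)) _ _ (c.map (G'.map m.hom.snd)) _ _ _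
          ?_ ?_ ?_
        · exact bapp_naturality α.inv m.hom.fst
        · rw [← c.map_comp, ← c.map_comp, m.hom.w]
        · exact bapp_naturality β.hom m.hom.snd)
      (fun z => fpMapIso_isHomLift F G F' G' a b c α β z))

@[simp] theorem fpMap_obj_fst (z : (FibCat.fp F' G').obj) :
    ((fpMap F G F' G' a b c α β).obj z).obj.fst = a.obj z.obj.fst := rfl

@[simp] theorem fpMap_obj_snd (z : (FibCat.fp F' G').obj) :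
    ((fpMap F G F' G' a b c α β).obj z).obj.snd = b.obj z.obj.snd := rfl

theorem fpMap_obj_iso_hom (z : (FibCat.fp F' G').obj) :
    ((fpMap F G F' G' a b c α β).obj z).obj.iso.hom = (fpMapIso F G F' G' a b c α β z).hom := rfl

@[simp] theorem fpMap_map_fst {z z' : (FibCat.fp F' G').obj} (m : z ⟶ z') :
    ((fpMap F G F' G' a b c α β).map m).hom.fst = a.map m.hom.fst := rfl

@[simp] theorem fpMap_map_snd {z z' : (FibCat.fp F' G').obj} (m : z ⟶ z') :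
    ((fpMap F G F' G' a b c α β).map m).hom.snd = b.map m.hom.snd := rfl

theorem fpMap_faithful [a.toFunctor.Faithful] [b.toFunctor.Faithful] :
    (fpMap F G F' G' a b c α β).toFunctor.Faithful := by
  refine ⟨fun {z z'} m m' h => ?_⟩
  apply fp_hom_ext
  · apply a.toFunctor.map_injective
    exact congrArg (fun t => t.hom.fst) h
  · apply b.toFunctor.map_injective
    exact congrArg (fun t => t.hom.snd) h

theorem fpMap_full [a.toFunctor.Full] [b.toFunctor.Full] [c.toFunctor.Faithful] :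
    (fpMap F G F' G' a b c α β).toFunctor.Full := by
  refine ⟨fun {z z'} n => ?_⟩
  obtain ⟨m₁, hm₁⟩ : ∃ m₁ : z.obj.fst ⟶ z'.obj.fst, a.map m₁ = n.hom.fst :=
    a.toFunctor.map_surjective n.hom.fst
  obtain ⟨m₂, hm₂⟩ : ∃ m₂ : z.obj.snd ⟶ z'.obj.snd, b.map m₂ = n.hom.snd :=
    b.toFunctor.map_surjective n.hom.snd
  have hw : F.map n.hom.fst ≫ (fpMapIso F G F' G' a b c α β z').hom =
      (fpMapIso F G F' G' a b c α β z).hom ≫ G.map n.hom.snd := n.hom.w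
  have hw' : F'.map m₁ ≫ z'.obj.iso.hom = z.obj.iso.hom ≫ G'.map m₂ := by
    apply c.toFunctor.map_injective
    show c.map (F'.map m₁ ≫ z'.obj.iso.hom) = c.map (z.obj.iso.hom ≫ G'.map m₂)
    rw [c.map_comp, c.map_comp]
    refine fpMap_full_aux (F.map (a.map m₁)) (bappIso α z.obj.fst).symm (bappIso α z'.obj.fst).symm _ _
      _ _ (bappIso β z.obj.snd) (bappIso β z'.obj.snd) (G.map (b.map m₂)) ?_ ?_ ?_
    · exact bapp_naturality α.inv m₁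
    · exact bapp_naturality β.hom m₂
    · have e1 : a.map m₁ = n.hom.fst := hm₁
      have e2 : b.map m₂ = n.hom.snd := hm₂
      rw [e1, e2]
      exact hw
  refine ⟨fpHomMk F' G' m₁ m₂ hw', ?_⟩
  apply fp_hom_ext
  · exact hm₁
  · exact hm₂

theorem fpMap_essSurj_aux {D : Type*} [Category D] {P Q R T V W : D} (αi : P ⟶ Q) (αh : Q ⟶ P)
    (hα : αi ≫ αh = 𝟙 P) (Fε : P ⟶ R) (ψ : R ⟶ T) (Gδi : T ⟶ V) (Gδ : V ⟶ T) (hδ : Gδi ≫ Gδ = 𝟙 T)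
    (βi : V ⟶ W) (βh : W ⟶ V) (hβ : βi ≫ βh = 𝟙 V) :
    Fε ≫ ψ = (αi ≫ (αh ≫ Fε ≫ ψ ≫ Gδi ≫ βi) ≫ βh) ≫ Gδ := by
  simp only [Category.assoc]
  rw [reassoc_of% hα, reassoc_of% hβ, hδ]
  simp

theorem fpMap_essSurj (ha : FibCat.IsEquivOver a) (hb : FibCat.IsEquivOver b)
    [c.toFunctor.Full] [c.toFunctor.Faithful] (η : (FibCat.fp F G).obj) :
    ∃ (ξ : (FibCat.fp F' G').obj) (e : (fpMap F G F' G' a b c α β).obj ξ ≅ η),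
      (FibCat.fp F G).p.IsHomLift (𝟙 ((FibCat.fp F G).p.obj η)) e.hom := by
  obtain ⟨ξ₁, ε, hε⟩ := fiberwise_essSurj_of_isEquivOver ha η.obj.fst
  obtain ⟨ξ₂, δ, hδ⟩ := fiberwise_essSurj_of_isEquivOver hb η.obj.snd
  -- the common base object
  let U : C := 𝒳.p.obj η.obj.fst
  have hy : 𝒴.p.obj η.obj.snd = U := fp_snd_obj_eq F G η
  have hε' : 𝒳.p.IsHomLift (𝟙 U) ε.hom := hε
  have hδ' : 𝒴.p.IsHomLift (𝟙 U) δ.hom := lift_id_congr 𝒴.p hδ hy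
  have hδi : 𝒴.p.IsHomLift (𝟙 U) δ.inv := lift_inv_of_iso 𝒴.p δ hδ'
  have hξ₁ : 𝒳'.p.obj ξ₁ = U := (a.w_obj ξ₁).symm.trans (lift_domain_eq 𝒳.p hε')
  have hξ₂ : 𝒴'.p.obj ξ₂ = U := (b.w_obj ξ₂).symm.trans (lift_domain_eq 𝒴.p hδ')
  have h1 : 𝒮.p.IsHomLift (𝟙 U) (bapp α.hom ξ₁) := bapp_isHomLift' α.hom ξ₁ hξ₁
  have h2 : 𝒮.p.IsHomLift (𝟙 U) (F.map ε.hom) := (BasedFunctor.isHomLift_iff F _ _).mpr hε'
  have h3 : 𝒮.p.IsHomLift (𝟙 U) η.obj.iso.hom := fp_iso_isHomLift F G η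
  have h4 : 𝒮.p.IsHomLift (𝟙 U) (G.map δ.inv) := (BasedFunctor.isHomLift_iff G _ _).mpr hδi
  have h5 : 𝒮.p.IsHomLift (𝟙 U) (bapp β.inv ξ₂) := bapp_isHomLift' β.inv ξ₂ hξ₂
  -- the isomorphism `c F' ξ₁ ≅ c G' ξ₂`
  let θ : c.obj (F'.obj ξ₁) ≅ c.obj (G'.obj ξ₂) :=
    bappIso α ξ₁ ≪≫ F.toFunctor.mapIso ε ≪≫ η.obj.iso ≪≫ (G.toFunctor.mapIso δ).symm ≪≫
      (bappIso β ξ₂).symm
  have hθ : 𝒮.p.IsHomLift (𝟙 U) θ.hom :=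
    lift_id_comp_id 𝒮.p h1 (lift_id_comp_id 𝒮.p h2 (lift_id_comp_id 𝒮.p h3
      (lift_id_comp_id 𝒮.p h4 h5)))
  let φ : F'.obj ξ₁ ≅ G'.obj ξ₂ := c.toFunctor.preimageIso θ
  have hcφ : c.map φ.hom = θ.hom := c.toFunctor.map_preimage θ.hom
  have hφ : 𝒮'.p.IsHomLift (𝟙 U) φ.hom := by
    apply (BasedFunctor.isHomLift_iff c _ _).mp
    rw [hcφ]
    exact hθ
  let ξ : (FibCat.fp F' G').obj := ⟨⟨ξ₁, ξ₂, φ⟩, lift_id_congr 𝒮'.p hφ hξ₁.symm⟩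
  have hw : F.map ε.hom ≫ η.obj.iso.hom =
      (fpMapIso F G F' G' a b c α β ξ).hom ≫ G.map δ.hom := by
    rw [fpMapIso_hom]
    show _ = (bapp α.inv ξ₁ ≫ c.map φ.hom ≫ bapp β.hom ξ₂) ≫ G.map δ.hom
    rw [hcφ]
    exact fpMap_essSurj_aux (bapp α.inv ξ₁) (bapp α.hom ξ₁) (bapp_iso_inv_hom α ξ₁) (F.map ε.hom)
      η.obj.iso.hom (G.map δ.inv) (G.map δ.hom)
      (by rw [← G.map_comp, δ.inv_hom_id, G.map_id]) (bapp β.inv ξ₂) (bapp β.hom ξ₂)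
      (bapp_iso_inv_hom β ξ₂)
  let e : (fpMap F G F' G' a b c α β).obj ξ ≅ η :=
    fpIsoMk F G (z := (fpMap F G F' G' a b c α β).obj ξ) (z' := η) ε δ hw
  refine ⟨ξ, e, ?_⟩
  have : 𝒳.p.IsHomLift (𝟙 U) e.hom.hom.fst := hε'
  exact fp_isHomLift_of_fst F G e.hom (𝟙 U)

/-- functoriality of the 2-fibre product in equivalences -/
theorem isEquivOver_fpMap (ha : FibCat.IsEquivOver a) (hb : FibCat.IsEquivOver b)
    [c.toFunctor.Full] [c.toFunctor.Faithful] :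
    FibCat.IsEquivOver (fpMap F G F' G' a b c α β) := by
  have := full_of_isEquivOver ha
  have := faithful_of_isEquivOver ha
  have := full_of_isEquivOver hb
  have := faithful_of_isEquivOver hb
  have := fpMap_full F G F' G' a b c α β
  have := fpMap_faithful F G F' G' a b c α β
  exact isEquivOver_of_fullyFaithful_of_fiberwise_essSurj _
    (fun η => fpMap_essSurj F G F' G' a b c α β ha hb η)

end fpMap

end Groth.Agent.H64
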