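import Groth.Agent.H64.Stk.LocEss

set_option autoImplicit false
open CategoryTheory CategoryTheory.Limits
universe v₆ u₆ v₅ u₅ v₄ u₄ v₃ u₃ v₂ u₂ v u

/-! Pointwise version of `exists_iso_of_locally_essSurj`: an object which is locally in the
essential image of a fully faithful functor from a stack is in the essential image. -/

namespace Groth.Agent.H64

open Groth.Agent.H32

variable {C : Type u} [Category.{v} C]

variable {𝒳 : BasedCategory.{v₂, u₂} C} {𝒴 : BasedCategory.{v₃, u₃} C} (F : 𝒳 ⥤ᵇ 𝒴)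
  [F.toFunctor.Full] [F.toFunctor.Faithful]

theorem exists_iso_of_locally_essSurj_at (J : GrothendieckTopology C) (h𝒴 : FibCat.IsFibGrpd 𝒴.p)
    (hX : ∀ ⦃U : C⦄ (R : Sieve U), R ∈ J U → (Stk.resSieve R 𝒳).EssSurj)
    (hY : ∀ ⦃U : C⦄ (R : Sieve U), R ∈ J U → (Stk.resSieve R 𝒴).Full) (y : 𝒴.obj)
    (hF : ∃ R ∈ J (𝒴.p.obj y), ∀ ⦃V : C⦄ (f : V ⟶ 𝒴.p.obj y), R f →
      ∃ (x : 𝒳.obj) (φ : F.obj x ⟶ y), 𝒴.p.IsHomLift f φ) :
    ∃ (x : 𝒳.obj) (e : F.obj x ≅ y), 𝒴.p.IsHomLift (𝟙 (𝒴.p.obj y)) e.hom := by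
  obtain ⟨R, hR, hloc⟩ := hF
  choose x φ hφ using hloc
  obtain ⟨H, ⟨θ⟩⟩ := (restr_essSurj_iff _ _).mp (hX R hR) (descBased F h𝒴 R x φ hφ)
  have hfib : 𝒴.p.IsFibered := isFibered_of_fibGrpd _ h𝒴
  have hlift : ∀ r : (Stk.sieveCat R).obj, 𝒴.p.IsHomLift r.obj.hom
      (F.map (bapp θ.hom r) ≫ φ r.obj.hom r.property) := by
    intro r
    have h1 : 𝒳.p.IsHomLift (𝟙 r.obj.left) (bapp θ.hom r) := bapp_isHomLift θ.hom r
    have h2 : 𝒴.p.IsHomLift (𝟙 r.obj.left) (F.map (bapp θ.hom r)) :=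
      (BasedFunctor.isHomLift_iff F _ _).mpr h1
    exact lift_comp_id_left 𝒴.p h2 (hφ r.obj.hom r.property)
  have hs : ∀ r : (Stk.sieveCat R).obj,
      𝒴.p.IsStronglyCartesian r.obj.hom (yonedaProj y rfl r.obj) := fun r =>
    yonedaProj_isStronglyCartesian y rfl r.obj
  have hγ : ∀ r : (Stk.sieveCat R).obj, ∃ χ : F.obj (H.obj r.obj) ⟶ (yonedaFunctor y rfl).obj r.obj,
      𝒴.p.IsHomLift (𝟙 r.obj.left) χ ∧ χ ≫ yonedaProj y rfl r.obj =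
        F.map (bapp θ.hom r) ≫ φ r.obj.hom r.property := fun r =>
    cart_lift_id 𝒴.p (hs r) _ (hlift r)
  choose γapp hγl hγfac using hγ
  have hγnat : ∀ {r' r : (Stk.sieveCat R).obj} (m : r' ⟶ r),
      F.map (H.map m.hom) ≫ γapp r = γapp r' ≫ (yonedaFunctor y rfl).map m.hom := by
    intro r' r m
    have h1 : 𝒳.p.IsHomLift m.hom.left (H.map m.hom) := und_map_isHomLift H m.hom
    have h2 : 𝒴.p.IsHomLift m.hom.left (F.map (H.map m.hom)) :=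
      (BasedFunctor.isHomLift_iff F _ _).mpr h1
    have h5 : 𝒴.p.IsHomLift m.hom.left ((yonedaFunctor y rfl).map m.hom) :=
      yonedaFunctor_map_isHomLift y rfl m.hom
    have hL : 𝒴.p.IsHomLift m.hom.left (F.map (H.map m.hom) ≫ γapp r) :=
      lift_comp_id_right 𝒴.p h2 (hγl r)
    have hR' : 𝒴.p.IsHomLift m.hom.left (γapp r' ≫ (yonedaFunctor y rfl).map m.hom) :=
      lift_comp_id_left 𝒴.p (hγl r') h5
    apply cart_ext 𝒴.p (hs r) m.hom.left hL hR'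
    have hnat : H.map m.hom ≫ bapp θ.hom r = bapp θ.hom r' ≫ (descBased F h𝒴 R x φ hφ).map m :=
      bapp_naturality θ.hom m
    have h2' : F.map (H.map m.hom) ≫ F.map (bapp θ.hom r) =
        F.map (bapp θ.hom r') ≫ F.map ((descBased F h𝒴 R x φ hφ).map m) :=
      (F.toFunctor.map_comp _ _).symm.trans
        ((congrArg F.toFunctor.map hnat).trans (F.toFunctor.map_comp _ _))
    exact nat_aux (F.map (H.map m.hom)) (γapp r) (yonedaProj y rfl r.obj) (F.map (bapp θ.hom r))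
      (φ r.obj.hom r.property) (F.map (bapp θ.hom r')) (F.map ((descBased F h𝒴 R x φ hφ).map m))
      (φ r'.obj.hom r'.property) (γapp r') (yonedaProj y rfl r'.obj)
      ((yonedaFunctor y rfl).map m.hom) (hγfac r) h2' (descBased_map_fac F h𝒴 R x φ hφ m)
      (hγfac r') (yonedaFunctor_map_fac y rfl m.hom)
  let γ : BasedFunctor.comp (Stk.sieveIncl R) (BasedFunctor.comp H F) ⟶
      BasedFunctor.comp (Stk.sieveIncl R) (yonedaBased y rfl) :=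
    mkB γapp (fun m => hγnat m) hγl
  obtain ⟨α, -⟩ := (restr_full_iff _ _).mp (hY R hR) _ _ γ
  let T : Over (𝒴.p.obj y) := ovT (𝒴.p.obj y)
  have hα : 𝒴.p.IsHomLift (𝟙 (𝒴.p.obj y)) (bapp α T) := bapp_isHomLift α T
  have hproj : 𝒴.p.IsHomLift (𝟙 (𝒴.p.obj y)) (yonedaProj y rfl T) :=
    (yonedaProj_isStronglyCartesian y rfl T).toIsHomLift
  let e : F.obj (H.obj T) ⟶ y := bapp α T ≫ yonedaProj y rfl T
  have he : 𝒴.p.IsHomLift (𝟙 (𝒴.p.obj y)) e := lift_id_comp_id 𝒴.p hα hproj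
  have hiso : IsIso e := isIso_of_lift_id 𝒴.p h𝒴 he
  exact ⟨H.obj T, @asIso _ _ _ _ e hiso, he⟩

/-- the same with the base object given up to equality -/
theorem exists_iso_of_locally_essSurj_at' (J : GrothendieckTopology C) (h𝒴 : FibCat.IsFibGrpd 𝒴.p)
    (hX : ∀ ⦃U : C⦄ (R : Sieve U), R ∈ J U → (Stk.resSieve R 𝒳).EssSurj)
    (hY : ∀ ⦃U : C⦄ (R : Sieve U), R ∈ J U → (Stk.resSieve R 𝒴).Full) (y : 𝒴.obj)
    {U : C} (hU : 𝒴.p.obj y = U)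
    (hF : ∃ R ∈ J U, ∀ ⦃V : C⦄ (f : V ⟶ U), R f →
      ∃ (x : 𝒳.obj) (φ : F.obj x ⟶ y), 𝒴.p.IsHomLift f φ) :
    ∃ (x : 𝒳.obj), Nonempty (F.obj x ≅ y) := by
  subst hU
  obtain ⟨x, e, -⟩ := exists_iso_of_locally_essSurj_at F J h𝒴 hX hY y hF
  exact ⟨x, ⟨e⟩⟩

end Groth.Agent.H64
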