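import Groth.Agent.H64.Stk.EquivOver
import Groth.Agent.H64.Stk.LocEss
import Groth.Agent.H64.Stk.Lift

set_option autoImplicit false
open CategoryTheory CategoryTheory.Limits
universe v₃ u₃ v₂ u₂ v u

namespace Groth.Agent.H64

open Groth.Agent.H32

variable {C : Type u} [Category.{v} C] {𝒳 : BasedCategory.{v₂, u₂} C}

section sub

variable (Q : ObjectProperty 𝒳.obj)

/-- the full subcategory on `Q` as a category over `C` -/
abbrev subCat : BasedCategory.{v₂, u₂} C := BasedCategory.ofFunctor (Q.ι ⋙ 𝒳.p)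

/-- the inclusion of the full subcategory -/
def subIncl : subCat Q ⥤ᵇ 𝒳 where
  toFunctor := Q.ι
  w := rfl

variable {Q}

theorem sub_isHomLift_iff {R S : C} (f : R ⟶ S) {a b : (subCat Q).obj} (φ : a ⟶ b) :
    (subCat Q).p.IsHomLift f φ ↔ 𝒳.p.IsHomLift f φ.hom := by
  constructor
  · intro h
    exact IsHomLift.of_fac 𝒳.p f φ.hom (IsHomLift.domain_eq (subCat Q).p f φ)
      (IsHomLift.codomain_eq (subCat Q).p f φ) (IsHomLift.fac (subCat Q).p f φ)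
  · intro h
    exact IsHomLift.of_fac (subCat Q).p f φ (IsHomLift.domain_eq 𝒳.p f φ.hom)
      (IsHomLift.codomain_eq 𝒳.p f φ.hom) (IsHomLift.fac 𝒳.p f φ.hom)

theorem isFibGrpd_subCat (h𝒳 : FibCat.IsFibGrpd 𝒳.p)
    (ha : ∀ ⦃y x : 𝒳.obj⦄ (_ : y ⟶ x), Q x → Q y) : FibCat.IsFibGrpd (subCat Q).p := by
  refine ⟨?_, ?_⟩
  · intro x V f
    obtain ⟨y, φ, hφ⟩ := h𝒳.exists_lift (x := x.obj) f
    exact ⟨⟨y, ha φ x.property⟩, ObjectProperty.homMk φ, (sub_isHomLift_iff f _).mpr hφ⟩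
  · intro y x φ
    have hs : 𝒳.p.IsStronglyCartesian (𝒳.p.map φ.hom) φ.hom := h𝒳.isStronglyCartesian φ.hom
    refine { toIsHomLift := (sub_isHomLift_iff _ _).mpr (lift_map 𝒳.p φ.hom)
             universal_property' := ?_ }
    intro a' g φ' hφ'
    have hφ'' : 𝒳.p.IsHomLift (g ≫ 𝒳.p.map φ.hom) φ'.hom := (sub_isHomLift_iff _ _).mp hφ'
    obtain ⟨χ, hχ, hχ'⟩ := cart_lift 𝒳.p hs g _ rfl φ'.hom hφ''
    refine ⟨ObjectProperty.homMk χ, ⟨(sub_isHomLift_iff _ _).mpr hχ, ?_⟩, ?_⟩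
    · apply ObjectProperty.hom_ext
      exact hχ'
    · rintro ψ ⟨hψ, hψ'⟩
      apply ObjectProperty.hom_ext
      have hψ1 : 𝒳.p.IsHomLift g ψ.hom := (sub_isHomLift_iff _ _).mp hψ
      apply cart_ext 𝒳.p hs g hψ1 hχ
      rw [hχ']
      exact congrArg (fun t => t.hom) hψ'

end sub

section lift

variable {Q : ObjectProperty 𝒳.obj} {𝒜 : BasedCategory.{v₃, u₃} C}

/-- lift a 2-morphism between composites with the inclusion -/
def subLiftHom {G H : 𝒜 ⥤ᵇ subCat Q}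
    (α : BasedFunctor.comp G (subIncl Q) ⟶ BasedFunctor.comp H (subIncl Q)) : G ⟶ H :=
  mkB (fun a => ObjectProperty.homMk (bapp α a))
    (fun m => by
      apply ObjectProperty.hom_ext
      exact bapp_naturality α m)
    (fun a => (sub_isHomLift_iff _ _).mpr (bapp_isHomLift α a))

theorem bapp_subLiftHom {G H : 𝒜 ⥤ᵇ subCat Q}
    (α : BasedFunctor.comp G (subIncl Q) ⟶ BasedFunctor.comp H (subIncl Q)) (a : 𝒜.obj) :
    (bapp (subLiftHom α) a).hom = bapp α a := rfl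

/-- lift a based functor whose values satisfy `Q` -/
def subLiftFunctor (G₀ : 𝒜 ⥤ᵇ 𝒳) (hG : ∀ a, Q (G₀.obj a)) : 𝒜 ⥤ᵇ subCat Q where
  toFunctor := Q.lift G₀.toFunctor hG
  w := G₀.w

theorem subLiftFunctor_comp (G₀ : 𝒜 ⥤ᵇ 𝒳) (hG : ∀ a, Q (G₀.obj a)) :
    BasedFunctor.comp (subLiftFunctor G₀ hG) (subIncl Q) = G₀ := rfl

end lift

section stackfor

variable {Q : ObjectProperty 𝒳.obj}

theorem isStackFor_subCat (h𝒳 : FibCat.IsFibGrpd 𝒳.p)
    (ha : ∀ ⦃y x : 𝒳.obj⦄ (_ : y ⟶ x), Q x → Q y) {U : C} (R : Sieve U)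
    (hR : Stk.IsStackFor R 𝒳)
    (hb : ∀ (x : 𝒳.obj), 𝒳.p.obj x = U →
      (∀ ⦃V : C⦄ (f : V ⟶ U), R f → ∀ (y : 𝒳.obj) (φ : y ⟶ x), 𝒳.p.IsHomLift f φ → Q y) → Q x) :
    Stk.IsStackFor R (subCat Q) := by
  have hfaith₀ : (Stk.restr (Stk.sieveIncl R) 𝒳).Faithful := hR.faithful
  have hfull₀ : (Stk.restr (Stk.sieveIncl R) 𝒳).Full := hR.full
  have hess₀ : (Stk.restr (Stk.sieveIncl R) 𝒳).EssSurj := hR.essSurj
  rw [restr_faithful_iff] at hfaith₀
  rw [restr_full_iff] at hfull₀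
  rw [restr_essSurj_iff] at hess₀
  have hfaith : (Stk.restr (Stk.sieveIncl R) (subCat Q)).Faithful := by
    rw [restr_faithful_iff]
    intro H H' α β hαβ
    have h1 := hfaith₀ (BasedFunctor.comp H (subIncl Q)) (BasedFunctor.comp H' (subIncl Q))
      (BasedCategory.whiskerRight α (subIncl Q)) (BasedCategory.whiskerRight β (subIncl Q))
      (fun a => congrArg (fun t => t.hom) (hαβ a))
    apply bext
    intro a
    apply ObjectProperty.hom_ext
    exact congrArg (fun t => bapp t a) h1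
  have hfull : (Stk.restr (Stk.sieveIncl R) (subCat Q)).Full := by
    rw [restr_full_iff]
    intro H H' γ
    obtain ⟨α₀, hα₀⟩ := hfull₀ (BasedFunctor.comp H (subIncl Q)) (BasedFunctor.comp H' (subIncl Q))
      (BasedCategory.whiskerRight γ (subIncl Q))
    refine ⟨subLiftHom α₀, fun a => ?_⟩
    apply ObjectProperty.hom_ext
    exact hα₀ a
  have hess : (Stk.restr (Stk.sieveIncl R) (subCat Q)).EssSurj := by
    rw [restr_essSurj_iff]
    intro K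
    obtain ⟨G₀, ⟨e₀⟩⟩ := hess₀ (BasedFunctor.comp K (subIncl Q))
    -- the value at the terminal object satisfies `Q`
    have hx : Q (G₀.obj (Over.mk (𝟙 U))) := by
      apply hb _ (G₀.w_obj (Over.mk (𝟙 U)))
      intro V f hf y φ hφ
      let m : (Over.mk f : Over U) ⟶ Over.mk (𝟙 U) := Over.homMk f (by simp)
      have hm₀ : (FibCat.overCat U).p.IsHomLift f m :=
        (inferInstance : (Over.forget U).IsHomLift ((Over.forget U).map m) m)
      have hm : 𝒳.p.IsHomLift f (G₀.map m) :=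
        BasedFunctor.preserves_isHomLift (𝒳 := FibCat.overCat U) G₀ f m
      obtain ⟨χ, -, -⟩ := cart_lift_id 𝒳.p (cart_of_fibGrpd 𝒳.p h𝒳 hm) φ hφ
      have hQf : Q (G₀.obj (Over.mk f)) :=
        ha (bapp e₀.hom ⟨Over.mk f, hf⟩) (K.obj ⟨Over.mk f, hf⟩).property
      exact ha χ hQf
    have hG : ∀ a : (FibCat.overCat U).obj, Q (G₀.obj a) := by
      intro a
      let m : a ⟶ Over.mk (𝟙 U) := Over.homMk a.hom (by simp)
      exact ha (G₀.map m) hx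
    refine ⟨subLiftFunctor G₀ hG, ⟨⟨subLiftHom e₀.hom, subLiftHom e₀.inv, ?_, ?_⟩⟩⟩
    · apply bext
      intro a
      apply ObjectProperty.hom_ext
      exact bapp_iso_hom_inv e₀ a
    · apply bext
      intro a
      apply ObjectProperty.hom_ext
      exact bapp_iso_inv_hom e₀ a
  exact { faithful := hfaith, full := hfull, essSurj := hess }

end stackfor

section closure

variable (Q : ObjectProperty 𝒳.obj)

/-- objects isomorphic over an identity to an object satisfying `Q` -/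
def fibClosure : ObjectProperty 𝒳.obj :=
  fun y => ∃ (y' : 𝒳.obj) (e : y ≅ y'), Q y' ∧ 𝒳.p.IsHomLift (𝟙 (𝒳.p.obj y)) e.hom

theorem le_fibClosure : Q ≤ fibClosure Q :=
  fun y hy => ⟨y, Iso.refl y, hy, IsHomLift.id rfl⟩

/-- the inclusion of the full subcategory on `Q` into that on its closure -/
def subClosureIncl : subCat Q ⥤ᵇ subCat (fibClosure Q) where
  toFunctor := ObjectProperty.ιOfLE (le_fibClosure Q)
  w := rfl

theorem isEquivOver_subClosureIncl : FibCat.IsEquivOver (subClosureIncl Q) := by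
  have : (subClosureIncl Q).toFunctor.Full :=
    (inferInstance : (ObjectProperty.ιOfLE (le_fibClosure Q)).Full)
  have : (subClosureIncl Q).toFunctor.Faithful :=
    (inferInstance : (ObjectProperty.ιOfLE (le_fibClosure Q)).Faithful)
  apply isEquivOver_of_fullyFaithful_of_fiberwise_essSurj
  intro η
  obtain ⟨y', e, hQ, he⟩ := η.property
  have hei : 𝒳.p.IsHomLift (𝟙 (𝒳.p.obj η.obj)) e.inv := lift_inv_of_iso 𝒳.p e he
  refine ⟨⟨y', hQ⟩, (fibClosure Q).isoMk e.symm, ?_⟩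
  exact (sub_isHomLift_iff _ _).mpr hei

end closure

theorem isStack_subCat (J : GrothendieckTopology C) (h𝒳 : Stk.IsStack J 𝒳)
    (Q : ObjectProperty 𝒳.obj)
    (h1 : ∀ ⦃y x : 𝒳.obj⦄ (_ : y ⟶ x), Q x →
      ∃ (y' : 𝒳.obj) (e : y ≅ y'), Q y' ∧ 𝒳.p.IsHomLift (𝟙 (𝒳.p.obj y)) e.hom)
    (h3 : ∀ ⦃U : C⦄ (R : Sieve U), R ∈ J U → ∀ (x : 𝒳.obj), 𝒳.p.obj x = U →
      (∀ ⦃V : C⦄ (f : V ⟶ U), R f → ∀ (y : 𝒳.obj) (φ : y ⟶ x), 𝒳.p.IsHomLift f φ →
        ∃ (y' : 𝒳.obj) (e : y ≅ y'), Q y' ∧ 𝒳.p.IsHomLift (𝟙 V) e.hom) →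
      ∃ (x' : 𝒳.obj) (e : x ≅ x'), Q x' ∧ 𝒳.p.IsHomLift (𝟙 U) e.hom) :
    Stk.IsStack J (subCat Q) := by
  rw [isStack_iff_of_isEquivOver J (isEquivOver_subClosureIncl Q)]
  have ha : ∀ ⦃y x : 𝒳.obj⦄ (_ : y ⟶ x), fibClosure Q x → fibClosure Q y := by
    intro y x φ hx
    obtain ⟨x', e, hQ, -⟩ := hx
    exact h1 (φ ≫ e.hom) hQ
  refine ⟨isFibGrpd_subCat h𝒳.1 ha, fun U R hR => ?_⟩
  apply isStackFor_subCat h𝒳.1 ha R (h𝒳.2 R hR)
  intro x hx hloc
  obtain ⟨x', e, hQ, he⟩ := h3 R hR x hx (fun V f hf y φ hφ => by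
    obtain ⟨y', e', hQ', he'⟩ := hloc f hf y φ hφ
    have hV : 𝒳.p.obj y = V := lift_domain_eq 𝒳.p hφ
    exact ⟨y', e', hQ', lift_id_congr 𝒳.p he' hV⟩)
  exact ⟨x', e, hQ, lift_id_congr 𝒳.p he hx.symm⟩

end Groth.Agent.H64
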