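import Groth.Agent.H64.Stk.SubStack
import Groth.Agent.H64.Stk.FpStack
import Groth.Agent.H64.Stk.LocEss

set_option autoImplicit false
open CategoryTheory CategoryTheory.Limits
universe v₃ u₃ v₂ u₂ v u

/-! The base change of the inclusion of a strictly full subcategory is the inclusion of the strictly
full subcategory on the pulled-back property. -/

namespace Groth.Agent.H64

open Groth.Agent.H32

variable {C : Type u} [Category.{v} C] {𝒳 : BasedCategory.{v₂, u₂} C}
  {𝒜 : BasedCategory.{v₃, u₃} C} (Q : ObjectProperty 𝒳.obj) (y : 𝒜 ⥤ᵇ 𝒳)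

/-- the pulled-back property -/
def pbProp : ObjectProperty 𝒜.obj := fun a => Q (y.obj a)

/-- the comparison functor from the subcategory on the pulled-back property to the 2-fibre
product -/
def subFp : subCat (pbProp Q y) ⥤ᵇ FibCat.fp y (subIncl Q) :=
  FibCat.fpLift (subIncl (pbProp Q y))
    (subLiftFunctor (BasedFunctor.comp (subIncl (pbProp Q y)) y) (fun a => a.property))
    (Iso.refl _)

theorem subFp_comp_fpFst :
    BasedFunctor.comp (subFp Q y) (FibCat.fpFst y (subIncl Q)) = subIncl (pbProp Q y) := rfl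

theorem subFp_obj_iso (a : (subCat (pbProp Q y)).obj) :
    ((subFp Q y).obj a).obj.iso = Iso.refl _ := rfl

instance subFp_faithful : (subFp Q y).toFunctor.Faithful where
  map_injective {a b} g g' h := by
    apply ObjectProperty.hom_ext
    exact congrArg (fun t => t.hom.fst) h

instance subFp_full : (subFp Q y).toFunctor.Full where
  map_surjective {a b} f := by
    refine ⟨ObjectProperty.homMk f.hom.fst, ?_⟩
    apply fp_hom_ext
    · rfl
    · apply ObjectProperty.hom_ext
      have hw := f.hom.w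
      have h1 : y.map f.hom.fst ≫ 𝟙 _ = 𝟙 _ ≫ f.hom.snd.hom := hw
      rw [Category.comp_id, Category.id_comp] at h1
      exact h1

theorem isEquivOver_subFp [Q.IsClosedUnderIsomorphisms] : FibCat.IsEquivOver (subFp Q y) := by
  apply isEquivOver_of_fullyFaithful_of_fiberwise_essSurj
  intro η
  have hQ : Q (y.obj η.obj.fst) := Q.prop_of_iso η.obj.iso.symm η.obj.snd.property
  let a : (subCat (pbProp Q y)).obj := ⟨η.obj.fst, hQ⟩
  let b : ((subFp Q y).obj a).obj.snd ≅ η.obj.snd :=
    (ObjectProperty.isoMk Q η.obj.iso : (⟨y.obj η.obj.fst, hQ⟩ : Q.FullSubcategory) ≅ η.obj.snd)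
  have hw : y.map (Iso.refl ((subFp Q y).obj a).obj.fst).hom ≫ η.obj.iso.hom =
      ((subFp Q y).obj a).obj.iso.hom ≫ (subIncl Q).map b.hom := by
    show y.map (𝟙 _) ≫ η.obj.iso.hom = 𝟙 _ ≫ η.obj.iso.hom
    rw [y.toFunctor.map_id]
  let e : (subFp Q y).obj a ≅ η := fpIsoMk y (subIncl Q) (Iso.refl _) b hw
  refine ⟨a, e, ?_⟩
  have h1 : (FibCat.fp y (subIncl Q)).p.map e.hom = 𝟙 _ := by
    show 𝒜.p.map (𝟙 _) = 𝟙 _
    exact 𝒜.p.map_id _
  exact lift_of_eq _ (lift_map _ e.hom) h1

end Groth.Agent.H64
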