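import Groth.Prelude.Def_AlgSt
import Groth.Agent.H32.EquivOver
import Groth.Agent.H32.FibBasic

set_option autoImplicit false
open CategoryTheory
universe v₅ u₅ v₄ u₄ v₃ u₃ v₂ u₂ v u

namespace Groth.Agent.H64

variable {C : Type u} [Category.{v} C]

section components

variable {𝒜 : BasedCategory.{v₂, u₂} C} {𝒳 : BasedCategory.{v₃, u₃} C}

/-- component of a 2-morphism over `C` -/
def bapp {H H' : 𝒜 ⥤ᵇ 𝒳} (α : H ⟶ H') (a : 𝒜.obj) : H.obj a ⟶ H'.obj a := α.toNatTrans.app a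

theorem bext {H H' : 𝒜 ⥤ᵇ 𝒳} (α β : H ⟶ H') (h : ∀ a, bapp α a = bapp β a) : α = β := by
  apply BasedNatTrans.homCategory.ext
  ext a
  exact h a

@[simp] theorem bapp_id (H : 𝒜 ⥤ᵇ 𝒳) (a : 𝒜.obj) : bapp (𝟙 H) a = 𝟙 (H.obj a) := rfl

@[simp] theorem bapp_comp {H H' H'' : 𝒜 ⥤ᵇ 𝒳} (α : H ⟶ H') (β : H' ⟶ H'') (a : 𝒜.obj) :
    bapp (α ≫ β) a = bapp α a ≫ bapp β a := rfl

theorem bapp_naturality {H H' : 𝒜 ⥤ᵇ 𝒳} (α : H ⟶ H') {a b : 𝒜.obj} (m : a ⟶ b) :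
    H.map m ≫ bapp α b = bapp α a ≫ H'.map m := α.toNatTrans.naturality m

instance bapp_isHomLift {H H' : 𝒜 ⥤ᵇ 𝒳} (α : H ⟶ H') (a : 𝒜.obj) :
    𝒳.p.IsHomLift (𝟙 (𝒜.p.obj a)) (bapp α a) := α.isHomLift' a

theorem bapp_isHomLift' {H H' : 𝒜 ⥤ᵇ 𝒳} (α : H ⟶ H') (a : 𝒜.obj) {S : C} (ha : 𝒜.p.obj a = S) :
    𝒳.p.IsHomLift (𝟙 S) (bapp α a) := BasedNatTrans.isHomLift α ha

/-- build a 2-morphism over `C` from components -/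
def mkB {H H' : 𝒜 ⥤ᵇ 𝒳} (app : ∀ a : 𝒜.obj, H.obj a ⟶ H'.obj a)
    (nat : ∀ {a b : 𝒜.obj} (m : a ⟶ b), H.map m ≫ app b = app a ≫ H'.map m)
    (hl : ∀ a, 𝒳.p.IsHomLift (𝟙 (𝒜.p.obj a)) (app a)) : H ⟶ H' :=
  { toNatTrans := { app := app, naturality := fun _ _ m => nat m }
    isHomLift' := hl }

@[simp] theorem bapp_mkB {H H' : 𝒜 ⥤ᵇ 𝒳} (app : ∀ a : 𝒜.obj, H.obj a ⟶ H'.obj a)
    (nat : ∀ {a b : 𝒜.obj} (m : a ⟶ b), H.map m ≫ app b = app a ≫ H'.map m)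
    (hl : ∀ a, 𝒳.p.IsHomLift (𝟙 (𝒜.p.obj a)) (app a)) (a : 𝒜.obj) :
    bapp (mkB app nat hl) a = app a := rfl

theorem bapp_iso_hom_inv {H H' : 𝒜 ⥤ᵇ 𝒳} (e : H ≅ H') (a : 𝒜.obj) :
    bapp e.hom a ≫ bapp e.inv a = 𝟙 _ := by
  rw [← bapp_comp, e.hom_inv_id, bapp_id]

theorem bapp_iso_inv_hom {H H' : 𝒜 ⥤ᵇ 𝒳} (e : H ≅ H') (a : 𝒜.obj) :
    bapp e.inv a ≫ bapp e.hom a = 𝟙 _ := by
  rw [← bapp_comp, e.inv_hom_id, bapp_id]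

/-- componentwise isomorphism -/
def bappIso {H H' : 𝒜 ⥤ᵇ 𝒳} (e : H ≅ H') (a : 𝒜.obj) : H.obj a ≅ H'.obj a where
  hom := bapp e.hom a
  inv := bapp e.inv a
  hom_inv_id := bapp_iso_hom_inv e a
  inv_hom_id := bapp_iso_inv_hom e a

/-- build a 2-isomorphism over `C` from component isomorphisms -/
def mkBIso {H H' : 𝒜 ⥤ᵇ 𝒳} (app : ∀ a : 𝒜.obj, H.obj a ≅ H'.obj a)
    (nat : ∀ {a b : 𝒜.obj} (m : a ⟶ b), H.map m ≫ (app b).hom = (app a).hom ≫ H'.map m)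
    (hl : ∀ a, 𝒳.p.IsHomLift (𝟙 (𝒜.p.obj a)) (app a).hom) : H ≅ H' :=
  BasedNatIso.mkNatIso (NatIso.ofComponents app (fun m => nat m)) hl

@[simp] theorem bapp_mkBIso_hom {H H' : 𝒜 ⥤ᵇ 𝒳} (app : ∀ a : 𝒜.obj, H.obj a ≅ H'.obj a)
    (nat : ∀ {a b : 𝒜.obj} (m : a ⟶ b), H.map m ≫ (app b).hom = (app a).hom ≫ H'.map m)
    (hl : ∀ a, 𝒳.p.IsHomLift (𝟙 (𝒜.p.obj a)) (app a).hom) (a : 𝒜.obj) :
    bapp (mkBIso app nat hl).hom a = (app a).hom := rfl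

@[simp] theorem bapp_mkBIso_inv {H H' : 𝒜 ⥤ᵇ 𝒳} (app : ∀ a : 𝒜.obj, H.obj a ≅ H'.obj a)
    (nat : ∀ {a b : 𝒜.obj} (m : a ⟶ b), H.map m ≫ (app b).hom = (app a).hom ≫ H'.map m)
    (hl : ∀ a, 𝒳.p.IsHomLift (𝟙 (𝒜.p.obj a)) (app a).hom) (a : 𝒜.obj) :
    bapp (mkBIso app nat hl).inv a = (app a).inv := rfl

end components

section restr

variable {𝒜 : BasedCategory.{v₂, u₂} C} {ℬ : BasedCategory.{v₃, u₃} C} (ι : 𝒜 ⥤ᵇ ℬ)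
  (𝒳 : BasedCategory.{v₄, u₄} C)

@[simp] theorem restr_obj (H : ℬ ⥤ᵇ 𝒳) : (Stk.restr ι 𝒳).obj H = BasedFunctor.comp ι H := rfl

@[simp] theorem bapp_restr_map {H H' : ℬ ⥤ᵇ 𝒳} (α : H ⟶ H') (a : 𝒜.obj) :
    bapp ((Stk.restr ι 𝒳).map α) a = bapp α (ι.obj a) := rfl

theorem restr_faithful_iff : (Stk.restr ι 𝒳).Faithful ↔
    ∀ (H H' : ℬ ⥤ᵇ 𝒳) (α β : H ⟶ H'), (∀ a, bapp α (ι.obj a) = bapp β (ι.obj a)) → α = β := by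
  constructor
  · intro h H H' α β hαβ
    apply (Stk.restr ι 𝒳).map_injective
    exact bext _ _ hαβ
  · intro h
    refine ⟨fun {H H'} α β hαβ => h H H' α β (fun a => ?_)⟩
    have := congrArg (fun γ => bapp γ a) hαβ
    exact this

theorem restr_full_iff : (Stk.restr ι 𝒳).Full ↔
    ∀ (H H' : ℬ ⥤ᵇ 𝒳) (γ : BasedFunctor.comp ι H ⟶ BasedFunctor.comp ι H'),
      ∃ α : H ⟶ H', ∀ a, bapp α (ι.obj a) = bapp γ a := by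
  constructor
  · intro h H H' γ
    obtain ⟨α, hα⟩ := (Stk.restr ι 𝒳).map_surjective (X := H) (Y := H') γ
    exact ⟨α, fun a => by rw [← hα]; rfl⟩
  · intro h
    refine ⟨fun {H H'} γ => ?_⟩
    obtain ⟨α, hα⟩ := h H H' γ
    exact ⟨α, bext _ _ hα⟩

theorem restr_essSurj_iff : (Stk.restr ι 𝒳).EssSurj ↔
    ∀ K : 𝒜 ⥤ᵇ 𝒳, ∃ H : ℬ ⥤ᵇ 𝒳, Nonempty (BasedFunctor.comp ι H ≅ K) := by
  constructor
  · intro h K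
    exact ⟨(Stk.restr ι 𝒳).objPreimage K, ⟨(Stk.restr ι 𝒳).objObjPreimageIso K⟩⟩
  · intro h
    refine ⟨fun K => ?_⟩
    obtain ⟨H, ⟨e⟩⟩ := h K
    exact ⟨H, ⟨e⟩⟩

end restr

end Groth.Agent.H64
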