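import Groth.Agent.H64.Stk.LocEss

set_option autoImplicit false
open CategoryTheory CategoryTheory.Limits
universe v₆ u₆ v₅ u₅ v₄ u₄ v₃ u₃ v₂ u₂ v u

namespace Groth.Agent.H64

open Groth.Agent.H32

variable {C : Type u} [Category.{v} C]

section

variable {𝒮₁ : BasedCategory.{v₂, u₂} C} {𝒮₂ : BasedCategory.{v₃, u₃} C}
  {𝒯₁ : BasedCategory.{v₄, u₄} C} (F : 𝒮₂ ⥤ᵇ 𝒮₁) (G : 𝒯₁ ⥤ᵇ 𝒮₁)

/-- If `F` is full and essentially surjective on fibres and `𝒮₂ ×_{𝒮₁} 𝒯₁` has thin fibres then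
`𝒯₁` has thin fibres. -/
theorem thin_of_thin_fp [F.toFunctor.Full]
    (hess : ∀ y : 𝒮₁.obj, ∃ (x : 𝒮₂.obj) (e : F.obj x ≅ y), 𝒮₁.p.IsHomLift (𝟙 (𝒮₁.p.obj y)) e.hom)
    (h : ∀ U : C, Quiver.IsThin ((FibCat.fp F G).p.Fiber U)) (U : C) :
    Quiver.IsThin (𝒯₁.p.Fiber U) := by
  intro X Y
  refine ⟨fun a b => ?_⟩
  obtain ⟨x, e, he⟩ := hess (G.obj X.1)
  obtain ⟨x', e', he'⟩ := hess (G.obj Y.1)
  have hGX : 𝒮₁.p.obj (G.obj X.1) = U := (G.w_obj X.1).trans X.2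
  have hGY : 𝒮₁.p.obj (G.obj Y.1) = U := (G.w_obj Y.1).trans Y.2
  have hx : 𝒮₂.p.obj x = U := by
    rw [← F.w_obj x, IsHomLift.domain_eq 𝒮₁.p (𝟙 (𝒮₁.p.obj (G.obj X.1))) e.hom, hGX]
  have hx' : 𝒮₂.p.obj x' = U := by
    rw [← F.w_obj x', IsHomLift.domain_eq 𝒮₁.p (𝟙 (𝒮₁.p.obj (G.obj Y.1))) e'.hom, hGY]
  have heU : 𝒮₁.p.IsHomLift (𝟙 (𝒮₂.p.obj x)) e.hom := lift_id_congr 𝒮₁.p he (hGX.trans hx.symm)
  have heU' : 𝒮₁.p.IsHomLift (𝟙 (𝒮₂.p.obj x')) e'.hom :=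
    lift_id_congr 𝒮₁.p he' (hGY.trans hx'.symm)
  have he'inv : 𝒮₁.p.IsHomLift (𝟙 U) e'.inv :=
    lift_inv_of_iso 𝒮₁.p e' (lift_id_congr 𝒮₁.p he' hGY)
  have heU1 : 𝒮₁.p.IsHomLift (𝟙 U) e.hom := lift_id_congr 𝒮₁.p he hGX
  let z : (FibCat.fp F G).obj := ⟨⟨x, X.1, e⟩, heU⟩
  let z' : (FibCat.fp F G).obj := ⟨⟨x', Y.1, e'⟩, heU'⟩
  have ha : 𝒯₁.p.IsHomLift (𝟙 U) a.1 := a.2
  have hb : 𝒯₁.p.IsHomLift (𝟙 U) b.1 := b.2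
  have hGa : 𝒮₁.p.IsHomLift (𝟙 U) (G.map a.1) := (BasedFunctor.isHomLift_iff G _ _).mpr ha
  have hGb : 𝒮₁.p.IsHomLift (𝟙 U) (G.map b.1) := (BasedFunctor.isHomLift_iff G _ _).mpr hb
  let c : x ⟶ x' := F.toFunctor.preimage (e.hom ≫ G.map a.1 ≫ e'.inv)
  let c' : x ⟶ x' := F.toFunctor.preimage (e.hom ≫ G.map b.1 ≫ e'.inv)
  have hc : F.map c = e.hom ≫ G.map a.1 ≫ e'.inv := F.toFunctor.map_preimage _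
  have hc' : F.map c' = e.hom ≫ G.map b.1 ≫ e'.inv := F.toFunctor.map_preimage _
  have hcl : 𝒮₂.p.IsHomLift (𝟙 U) c := by
    have : 𝒮₁.p.IsHomLift (𝟙 U) (F.map c) := by
      rw [hc]
      exact lift_id_comp_id 𝒮₁.p heU1 (lift_id_comp_id 𝒮₁.p hGa he'inv)
    exact (BasedFunctor.isHomLift_iff F _ _).mp this
  have hcl' : 𝒮₂.p.IsHomLift (𝟙 U) c' := by
    have : 𝒮₁.p.IsHomLift (𝟙 U) (F.map c') := by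
      rw [hc']
      exact lift_id_comp_id 𝒮₁.p heU1 (lift_id_comp_id 𝒮₁.p hGb he'inv)
    exact (BasedFunctor.isHomLift_iff F _ _).mp this
  let m : z ⟶ z' := fpHomMk F G (z := z) (z' := z') c a.1 (by
    show F.map c ≫ e'.hom = e.hom ≫ G.map a.1
    rw [hc]; simp)
  let m' : z ⟶ z' := fpHomMk F G (z := z) (z' := z') c' b.1 (by
    show F.map c' ≫ e'.hom = e.hom ≫ G.map b.1
    rw [hc']; simp)
  have hm : (FibCat.fp F G).p.IsHomLift (𝟙 U) m := by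
    have : 𝒮₂.p.IsHomLift (𝟙 U) m.hom.fst := hcl
    exact fp_isHomLift_of_fst F G m (𝟙 U)
  have hm' : (FibCat.fp F G).p.IsHomLift (𝟙 U) m' := by
    have : 𝒮₂.p.IsHomLift (𝟙 U) m'.hom.fst := hcl'
    exact fp_isHomLift_of_fst F G m' (𝟙 U)
  let Z : (FibCat.fp F G).p.Fiber U := ⟨z, hx⟩
  let Z' : (FibCat.fp F G).p.Fiber U := ⟨z', hx'⟩
  let μ : Z ⟶ Z' := ⟨m, hm⟩
  let μ' : Z ⟶ Z' := ⟨m', hm'⟩
  have hμ : μ = μ' := (h U Z Z').elim μ μ'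
  have hmm : m = m' := congrArg Subtype.val hμ
  apply Functor.Fiber.hom_ext
  have : m.hom.snd = m'.hom.snd := by rw [hmm]
  exact this

end

section

variable {𝒮₁ 𝒮₂ 𝒯₁ : BasedCategory.{v, max u v} C}

theorem isFibSetoid_of_isFibSetoid_fp (J : GrothendieckTopology C)
    (h₁ : Stk.IsStack J 𝒮₁) (h₂ : Stk.IsStack J 𝒮₂) (h₃ : Stk.IsStack J 𝒯₁) (F : 𝒮₂ ⥤ᵇ 𝒮₁)
    [F.toFunctor.Full] [F.toFunctor.Faithful]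
    (hF : ∀ y : 𝒮₁.obj, ∃ R ∈ J (𝒮₁.p.obj y), ∀ ⦃V : C⦄ (f : V ⟶ 𝒮₁.p.obj y), R f →
      ∃ (x : 𝒮₂.obj) (φ : F.obj x ⟶ y), 𝒮₁.p.IsHomLift f φ)
    (G : 𝒯₁ ⥤ᵇ 𝒮₁) (h : FibCat.IsFibSetoid (FibCat.fp F G).p) : FibCat.IsFibSetoid 𝒯₁.p := by
  refine ⟨h₃.1, ?_⟩
  apply thin_of_thin_fp F G ?_ h.2
  exact exists_iso_of_locally_essSurj F J h₁.1 (fun U R hR => (h₂.2 R hR).essSurj)
    (fun U R hR => (h₁.2 R hR).full) hF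

end

end Groth.Agent.H64
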