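import Groth.Agent.H64.Stk.Whisker
import Groth.Agent.H64.Stk.EquivOver

set_option autoImplicit false
open CategoryTheory CategoryTheory.Limits
universe v₅ u₅ v₄ u₄ v₃ u₃ v₂ u₂ v u

/-! If `j : 𝒳 ⟶ 𝒴` is faithful, `𝒴` is a stack and all base changes of `j` to slices are stacks
then `𝒳` is a stack. -/

namespace Groth.Agent.H64

open Groth.Agent.H32

variable {C : Type u} [Category.{v} C] {𝒳 : BasedCategory.{v₂, u₂} C}
  {𝒴 : BasedCategory.{v₃, u₃} C} (j : 𝒳 ⥤ᵇ 𝒴)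
  {𝒜 : BasedCategory.{v₄, u₄} C} {ℬ : BasedCategory.{v₅, u₅} C} (ι : 𝒜 ⥤ᵇ ℬ)

theorem restr_essSurj_of_fp (hY : (Stk.restr ι 𝒴).EssSurj)
    (hfp : ∀ y : ℬ ⥤ᵇ 𝒴, (Stk.restr ι (FibCat.fp y j)).EssSurj) :
    (Stk.restr ι 𝒳).EssSurj := by
  rw [restr_essSurj_iff] at hY ⊢
  intro K
  obtain ⟨y, ⟨ε⟩⟩ := hY (BasedFunctor.comp K j)
  let K' : 𝒜 ⥤ᵇ FibCat.fp y j := FibCat.fpLift ι K ε
  obtain ⟨H', ⟨e'⟩⟩ := (restr_essSurj_iff ι (FibCat.fp y j)).mp (hfp y) K'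
  exact ⟨BasedFunctor.comp H' (FibCat.fpSnd y j), ⟨bwrIso e' (FibCat.fpSnd y j)⟩⟩

theorem restr_faithful_of_faithful [j.toFunctor.Faithful] (hY : (Stk.restr ι 𝒴).Faithful) :
    (Stk.restr ι 𝒳).Faithful := by
  rw [restr_faithful_iff] at hY ⊢
  intro H H' α β h
  have h1 := hY _ _ (BasedCategory.whiskerRight α j) (BasedCategory.whiskerRight β j)
    (fun a => by rw [bapp_whiskerRight, bapp_whiskerRight, h a])
  apply bext
  intro b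
  apply j.toFunctor.map_injective
  exact congrArg (fun γ => bapp γ b) h1

theorem restr_full_of_fp (h𝒴 : FibCat.IsFibGrpd 𝒴.p) (hY : (Stk.restr ι 𝒴).Full)
    (hfp : ∀ y : ℬ ⥤ᵇ 𝒴, (Stk.restr ι (FibCat.fp y j)).Full) :
    (Stk.restr ι 𝒳).Full := by
  rw [restr_full_iff] at hY ⊢
  intro H₁ H₂ γ
  obtain ⟨β, hβ⟩ := hY (BasedFunctor.comp H₁ j) (BasedFunctor.comp H₂ j)
    (BasedCategory.whiskerRight γ j)
  let βi : BasedFunctor.comp H₁ j ≅ BasedFunctor.comp H₂ j := bisoOfHom h𝒴 β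
  let y : ℬ ⥤ᵇ 𝒴 := BasedFunctor.comp H₂ j
  let L₂ : ℬ ⥤ᵇ FibCat.fp y j := FibCat.fpLift (BasedFunctor.id ℬ) H₂ (Iso.refl _)
  let L₁ : ℬ ⥤ᵇ FibCat.fp y j := FibCat.fpLift (BasedFunctor.id ℬ) H₁ βi.symm
  -- the 2-morphism on `𝒜`
  have hw : ∀ t : 𝒜.obj, y.map (𝟙 (ι.obj t)) ≫ (L₂.obj (ι.obj t)).obj.iso.hom =
      (L₁.obj (ι.obj t)).obj.iso.hom ≫ j.map (bapp γ t) := by
    intro t
    have h3 : j.map (bapp γ t) = bapp β (ι.obj t) := (hβ t).symm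
    have h4 : bapp βi.inv (ι.obj t) ≫ bapp β (ι.obj t) = 𝟙 (y.obj (ι.obj t)) := by
      have := bapp_iso_inv_hom βi (ι.obj t)
      rw [bisoOfHom_hom] at this
      exact this
    have e1 : y.map (𝟙 (ι.obj t)) = 𝟙 (y.obj (ι.obj t)) := y.toFunctor.map_id _
    show y.map (𝟙 (ι.obj t)) ≫ 𝟙 (y.obj (ι.obj t)) = bapp βi.inv (ι.obj t) ≫ j.map (bapp γ t)
    have e2 : y.map (𝟙 (ι.obj t)) ≫ 𝟙 (y.obj (ι.obj t)) = 𝟙 (y.obj (ι.obj t)) := by
      rw [e1, Category.comp_id]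
    exact e2.trans (h4.symm.trans (congrArg (fun m => bapp βi.inv (ι.obj t) ≫ m) h3.symm))
  let γ' : BasedFunctor.comp ι L₁ ⟶ BasedFunctor.comp ι L₂ :=
    mkB (fun t => fpHomMk y j (z := L₁.obj (ι.obj t)) (z' := L₂.obj (ι.obj t))
        (𝟙 (ι.obj t)) (bapp γ t) (hw t))
      (fun {t t'} m => by
        apply fp_hom_ext
        · show ι.map m ≫ 𝟙 _ = 𝟙 _ ≫ ι.map m
          rw [Category.comp_id, Category.id_comp]
        · exact bapp_naturality γ m)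
      (fun t => by
        have : ℬ.p.IsHomLift (𝟙 (𝒜.p.obj t)) (𝟙 (ι.obj t)) := lift_id_of_obj ℬ.p (ι.w_obj t)
        exact @Groth.Agent.H32.fp_isHomLift_of_fst _ _ _ _ _ y j _ _
          (fpHomMk y j (z := L₁.obj (ι.obj t)) (z' := L₂.obj (ι.obj t))
            (𝟙 (ι.obj t)) (bapp γ t) (hw t)) _ _ (𝟙 (𝒜.p.obj t)) this)
  obtain ⟨δ, hδ⟩ := (restr_full_iff ι (FibCat.fp y j)).mp (hfp y) L₁ L₂ γ'
  refine ⟨BasedCategory.whiskerRight δ (FibCat.fpSnd y j), fun t => ?_⟩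
  have := congrArg (fun m => m.hom.snd) (hδ t)
  exact this

end Groth.Agent.H64

namespace Groth.Agent.H64

open Groth.Agent.H32

variable {C : Type u} [Category.{v} C] {𝒳 : BasedCategory.{v₂, u₂} C}
  {𝒴 : BasedCategory.{v₃, u₃} C}

/-- a category fibred in groupoids with a faithful functor to a stack all of whose base changes to
slices are stacks is a stack -/
theorem isStack_of_faithful_of_fp (J : GrothendieckTopology C) (h𝒳 : FibCat.IsFibGrpd 𝒳.p)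
    (h𝒴 : Stk.IsStack J 𝒴) (j : 𝒳 ⥤ᵇ 𝒴) [j.toFunctor.Faithful]
    (h : ∀ (U : C) (y : FibCat.overCat U ⥤ᵇ 𝒴), Stk.IsStack J (FibCat.fp y j)) :
    Stk.IsStack J 𝒳 := by
  refine ⟨h𝒳, fun U R hR => ?_⟩
  have hY : (Stk.restr (Stk.sieveIncl R) 𝒴).IsEquivalence := h𝒴.2 R hR
  have hfp : ∀ y : FibCat.overCat U ⥤ᵇ 𝒴,
      (Stk.restr (Stk.sieveIncl R) (FibCat.fp y j)).IsEquivalence := fun y => (h U y).2 R hR
  exact
    { faithful := restr_faithful_of_faithful j _ hY.faithful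
      full := restr_full_of_fp j _ h𝒴.1 hY.full (fun y => (hfp y).full)
      essSurj := restr_essSurj_of_fp j _ hY.essSurj (fun y => (hfp y).essSurj) }

end Groth.Agent.H64
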